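/-
The group Z₂ × S₄ as a concrete model: the facts about its elements that the recognition of S₆ by the
centraliser of an involution needs.
-/
import Mathlib.GroupTheory.Perm.Sign
import Mathlib.GroupTheory.Perm.Fin
import Mathlib.Data.ZMod.Basic
import Mathlib.Algebra.Group.TypeTags.Finite
import Mathlib.Data.Fintype.Perm

set_option autoImplicit false
set_option synthInstance.maxSize 4000
set_option synthInstance.maxHeartbeats 400000
set_option maxHeartbeats 1000000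

namespace CfsgLib.TwoS4

/-- The model group. -/
abbrev M := Multiplicative (ZMod 2) × Equiv.Perm (Fin 4)

/-- The non-trivial element of the first factor. -/
def eps : Multiplicative (ZMod 2) := Multiplicative.ofAdd 1

def a0 : M := (eps, 1)
def z0 : M := (1, Equiv.swap 0 2 * Equiv.swap 1 3)
def az : M := (eps, Equiv.swap 0 2 * Equiv.swap 1 3)
def v0 : M := (1, Equiv.swap 0 1 * Equiv.swap 2 3)
def w0 : M := (1, Equiv.swap 0 3 * Equiv.swap 1 2)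
def s0 : M := (1, Equiv.swap 0 2)
def s1 : M := (1, Equiv.swap 1 3)
def as0 : M := (eps, Equiv.swap 0 2)
def as1 : M := (eps, Equiv.swap 1 3)
def p01 : M := (1, Equiv.swap 0 1)
def p12 : M := (1, Equiv.swap 1 2)
def p23 : M := (1, Equiv.swap 2 3)
def c0 : M := p01 * p12

/-- The Sylow 2-subgroup: the centraliser of `z0`. -/
abbrev InT (m : M) : Prop := m * z0 = z0 * m

/-- The four-group of the second factor. -/
abbrev InV (m : M) : Prop := m = 1 ∨ m = z0 ∨ m = v0 ∨ m = w0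

/-- The elementary abelian subgroup through `v0`. -/
abbrev InE1 (m : M) : Prop := InT m ∧ m * v0 = v0 * m

/-- The elementary abelian subgroup through `s0`. -/
abbrev InE2 (m : M) : Prop := InT m ∧ m * s0 = s0 * m

/-- Involutions. -/
abbrev IsInv (m : M) : Prop := m * m = 1 ∧ m ≠ 1

/-- The class that will fuse with `a0`. -/
abbrev IsA (m : M) : Prop := IsInv m ∧ ((m.1 = eps ∧ m.2 = 1) ∨ (m.1 = 1 ∧ ∃ i, m.2 i = i))

/-- The class that will fuse with `z0`. -/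
abbrev IsZ (m : M) : Prop :=
  IsInv m ∧ ((m.1 = 1 ∧ ∀ i, m.2 i ≠ i) ∨ (m.1 = eps ∧ m.2 ≠ 1 ∧ ∃ i, m.2 i = i))

/-- The class that will fuse with `az`. -/
abbrev IsB (m : M) : Prop := IsInv m ∧ m.1 = eps ∧ ∀ i, m.2 i ≠ i

/-- The odd-permutation twist. -/
def tw (m : M) : M := (if Equiv.Perm.sign m.2 = 1 then m.1 else m.1 * eps, m.2)

theorem card_M : Fintype.card M = 48 := by decide +kernel

theorem center_M : ∀ m : M, (∀ x : M, m * x = x * m) → m ≠ 1 → m = a0 := by decide +kernel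

theorem pow_twelve : ∀ m : M, m ^ 12 = 1 := by decide +kernel

theorem card_T : Fintype.card {m : M // InT m} = 16 := by decide +kernel

theorem pow_sixteen_T : ∀ m : M, InT m → m ^ 16 = 1 := by decide +kernel

theorem comm_T : ∀ x y : M, InT x → InT y → x * y * x⁻¹ * y⁻¹ = 1 ∨ x * y * x⁻¹ * y⁻¹ = z0 := by decide +kernel

theorem comm_eq : v0 * s0 * v0⁻¹ * s0⁻¹ = z0 := by decide +kernel

theorem basic_mem : InT a0 ∧ InT z0 ∧ InT az ∧ InT v0 ∧ InT w0 ∧ InT s0 ∧ InT s1 ∧ InT as0 ∧ InT as1 ∧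
    InE2 a0 ∧ InE2 z0 ∧ InE2 az ∧ InE2 s0 ∧ InE2 s1 ∧ InE2 as0 ∧ InE2 as1 ∧ InE1 a0 ∧ InE1 z0 ∧ InE1 v0 ∧
    ¬ InT c0 := by decide +kernel

theorem central_T : ∀ m x : M, (m = a0 ∨ m = z0 ∨ m = az) → InT x → m * x = x * m := by decide +kernel

theorem T_inv : ∀ m : M, InT m → IsInv m → m = a0 ∨ m = z0 ∨ m = az ∨ m = v0 ∨ m = w0 ∨ m = v0 * a0 ∨
    m = w0 * a0 ∨ m = s0 ∨ m = s1 ∨ m = as0 ∨ m = as1 := by decide +kernel

theorem conj_facts : c0 * z0 * c0⁻¹ ≠ z0 ∧ InV (c0 * z0 * c0⁻¹) ∧ InV (c0 * c0 * z0 * (c0 * c0)⁻¹) ∧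
    c0 * c0 * z0 * (c0 * c0)⁻¹ ≠ z0 ∧ c0 * z0 * c0⁻¹ ≠ c0 * c0 * z0 * (c0 * c0)⁻¹ ∧ c0 ^ 3 = 1 ∧ c0 ≠ 1 ∧
    c0 ^ 16 ≠ 1 ∧ v0 * s0 * v0⁻¹ = s1 ∧ v0 * as0 * v0⁻¹ = as1 ∧ s0 * v0 * s0⁻¹ = w0 := by decide +kernel

theorem normalize_E2 : ∀ k : M, InE2 (k * a0 * k⁻¹) → InE2 (k * z0 * k⁻¹) → InE2 (k * s0 * k⁻¹) → InT k := by
  decide +kernel

theorem normalize_E1 : ∀ m : M, InE1 m → InE1 (c0 * m * c0⁻¹) := by decide +kernel

theorem E_comm : ∀ m x : M, InE2 m → InE2 x → m * x = x * m ∧ m * m = 1 := by decide +kernel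

theorem card_E1 : Fintype.card {m : M // InE1 m} = 8 := by decide +kernel

theorem card_E2 : Fintype.card {m : M // InE2 m} = 8 := by decide +kernel

theorem E_cases : ∀ m : M, InT m → m * m = 1 → m ≠ 1 → m ≠ a0 → m ≠ z0 → m ≠ az →
    (∀ x : M, InT x → x * m = m * x → InE1 x) ∨ (∀ x : M, InT x → x * m = m * x → InE2 x) := by decide +kernel

theorem four_T : Fintype.card {m : M // m = 1 ∨ m = a0 ∨ m = z0 ∨ m = az} = 4 := by decide +kernel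

theorem card_D8 : Fintype.card {m : M // InT m ∧ m.1 = 1} = 8 := by decide +kernel

theorem D8_inv : ∀ m : M, InT m → m.1 = 1 → m * m = 1 → m ≠ 1 →
    ∃ k : M, k * z0 * k⁻¹ = m ∨ k * s0 * k⁻¹ = m := by decide +kernel

theorem V_cases : ∀ m x : M, InT m → (x = s0 ∨ x = as0) →
    InV m ∨ InV (a0 * m) ∨ InV (x * m) ∨ InV (a0 * x * m) := by decide +kernel

theorem cyclic_four : ∀ x : M, (x = s0 ∨ x = as0) →
    InT x ∧ IsInv x ∧ (x * v0) ^ 4 = 1 ∧ (x * v0) ^ 2 = z0 ∧ x ≠ 1 ∧ x ≠ x * v0 ∧ x ≠ (x * v0) ^ 2 ∧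
      x ≠ (x * v0) ^ 3 := by decide +kernel

theorem V_facts : ∀ m n : M, InV m → InV n → InT m ∧ m * n = n * m ∧ m * m = 1 ∧ InV (m * n) ∧ InV m⁻¹ := by
  decide +kernel

theorem card_V : Fintype.card {m : M // InV m} = 4 := by decide +kernel

theorem class_A : ∀ m : M, IsA m → ∃ k : M, k * m * k⁻¹ = a0 ∨ k * m * k⁻¹ = s0 := by decide +kernel

theorem class_Z : ∀ m : M, IsZ m → ∃ k : M, k * m * k⁻¹ = z0 ∨ k * m * k⁻¹ = as0 := by decide +kernel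

theorem class_B : ∀ m : M, IsB m → ∃ k : M, k * m * k⁻¹ = az := by decide +kernel

theorem classes : ∀ m : M, IsInv m → IsA m ∨ IsZ m ∨ IsB m := by decide +kernel

theorem T_A : ∀ m : M, InT m → IsA m → m = a0 ∨ m = s0 ∨ m = s1 := by decide +kernel

theorem T_Z : ∀ m : M, InT m → IsZ m → m = z0 ∨ m = v0 ∨ m = w0 ∨ m = as0 ∨ m = as1 := by decide +kernel

theorem E2_A : ∀ m : M, InE2 m → IsA m → m = a0 ∨ m = s0 ∨ m = s1 := by decide +kernel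

theorem E2_Z : ∀ m : M, InE2 m → IsZ m → m = z0 ∨ m = as0 ∨ m = as1 := by decide +kernel

theorem E2_B : ∀ m : M, InE2 m → IsB m → m = az := by decide +kernel

theorem E2_side : ∀ m : M, InE2 m → m ≠ 1 →
    m = a0 ∨ m = z0 ∨ m = az ∨ m = s0 ∨ m = s1 ∨ m = as0 ∨ m = as1 := by decide +kernel

theorem shift_AB : ∀ m : M, InT m → IsB m → ¬ IsA (az * m) := by decide +kernel

theorem square_T : ∀ m : M, InT m → m * m = 1 ∨ m * m = z0 := by decide +kernel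

theorem mark : IsA a0 ∧ IsA s0 ∧ IsA s1 ∧ IsZ z0 ∧ IsZ as0 ∧ IsZ as1 ∧ IsB az ∧ IsA p01 ∧ IsA p12 ∧ IsA p23 := by
  decide +kernel

theorem swap_triangle : ∀ p : M, IsA p → p ≠ a0 → ∀ q : M, IsA q → q ≠ a0 → p * q = q * p → p ≠ q →
    ∀ r : M, IsA r → r ≠ a0 → p * r ≠ r * p → (p * r) ^ 3 = 1 ∧ (q * r) ^ 3 = 1 := by decide +kernel

theorem cent_c0 : ∀ m : M, m * c0 = c0 * m → m ^ 6 = 1 ∧ (m ^ 3 = 1 → m = 1 ∨ m = c0 ∨ m = c0 * c0) ∧
    (IsInv m → m = a0) := by decide +kernel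

theorem coxeter_facts : p01 * c0 * p01 = c0⁻¹ ∧ p12 * c0 * p12 = c0⁻¹ ∧ IsZ (a0 * p01) ∧ IsZ (a0 * p12) ∧
    (p01 * p12) ^ 3 = 1 ∧ (p12 * p23) ^ 3 = 1 ∧ p01 * p23 = p23 * p01 ∧ p01 * a0 = a0 * p01 ∧
    p12 * a0 = a0 * p12 ∧ p23 * a0 = a0 * p23 ∧ p23 ≠ p01 ∧ p01 ≠ p12 ∧ a0 * a0 = 1 ∧ p23 ≠ a0 := by
  decide +kernel

theorem tw_mul : ∀ x y : M, tw (x * y) = tw x * tw y := by decide +kernel

theorem tw_tw : ∀ x : M, tw (tw x) = x := by decide +kernel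

/-- The twist as an automorphism. -/
def twE : M ≃* M where
  toFun := tw
  invFun := tw
  left_inv := tw_tw
  right_inv := tw_tw
  map_mul' := tw_mul

theorem tw_facts : tw a0 = a0 ∧ tw z0 = z0 ∧ tw s0 = as0 ∧ tw s1 = as1 ∧ tw as0 = s0 ∧ tw as1 = s1 ∧ tw az = az := by
  decide +kernel

theorem tw_E2 : ∀ m : M, (InE2 (tw m) ↔ InE2 m) ∧ (InT (tw m) ↔ InT m) := by decide +kernel

theorem count_tz_z : (Finset.univ.filter fun p : M × M =>
    IsA p.1 ∧ IsB p.2 ∧ ∃ k : Fin 12, (p.1 * p.2) ^ (k : ℕ) = z0).card = 5 := by decide +kernel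

theorem count_tz_t : (Finset.univ.filter fun p : M × M =>
    IsA p.1 ∧ IsB p.2 ∧ ∃ k : Fin 12, (p.1 * p.2) ^ (k : ℕ) = a0).card = 0 := by decide +kernel

theorem count_z_z : (Finset.univ.filter fun p : M × M =>
    (IsA p.1 ∧ InT p.1) ∧ (IsZ p.2 ∧ InT p.2) ∧ ∃ k : Fin 12, (p.1 * p.2) ^ (k : ℕ) = z0).card = 4 := by decide +kernel

theorem count_z_t : (Finset.univ.filter fun p : M × M =>
    IsA p.1 ∧ IsZ p.2 ∧ ∃ k : Fin 12, (p.1 * p.2) ^ (k : ℕ) = a0).card = 30 := by decide +kernel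

end CfsgLib.TwoS4
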