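/-
A finite group with an involution `t` whose centraliser is Z₂ × S₄ and a Sylow 2-subgroup whose derived
subgroup is self-centralising: the common facts.
-/
import Cfsg.Agent.Lib.TwoS4.Model
import Cfsg.Agent.Lib.Involutions
import Cfsg.Agent.Lib.Transfer
import Mathlib

set_option autoImplicit false
set_option linter.style.haveILetI false

namespace CfsgLib.TwoS4

open Subgroup
open scoped commutatorElement Pointwise

/-- The subgroup of `M` of elements commuting with `z0`. -/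
def Tm : Subgroup M := centralizer ({z0} : Set M)

theorem mem_Tm {m : M} : m ∈ Tm ↔ InT m := mem_centralizer_singleton_iff

/-- The subgroup of `M` behind `InE1`. -/
def E1m : Subgroup M := centralizer ({z0} : Set M) ⊓ centralizer ({v0} : Set M)

theorem mem_E1m {m : M} : m ∈ E1m ↔ InE1 m := by
  simp only [E1m, mem_inf, mem_centralizer_singleton_iff]

/-- The subgroup of `M` behind `InE2`. -/
def E2m : Subgroup M := centralizer ({z0} : Set M) ⊓ centralizer ({s0} : Set M)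

theorem mem_E2m {m : M} : m ∈ E2m ↔ InE2 m := by
  simp only [E2m, mem_inf, mem_centralizer_singleton_iff]

variable {G : Type*} [Group G]

/-- The setting: `φ` identifies the model with `C(t)`, `P` is the image of `Tm`, and `C(z) = P`. -/
structure Hyp (t : G) (φ : M →* G) (P : Sylow 2 G) : Prop where
  inj : Function.Injective φ
  ha : φ a0 = t
  cent : ∀ x : G, x * t = t * x → ∃ m, φ m = x
  cz : ∀ x : G, x * φ z0 = φ z0 * x → ∃ m, InT m ∧ φ m = x
  syl : ∀ x : G, x ∈ (P : Subgroup G) ↔ ∃ m, InT m ∧ φ m = x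

variable {t : G} {φ : M →* G} {P : Sylow 2 G}

namespace Hyp

theorem mem (h : Hyp t φ P) {m : M} (hm : InT m) : φ m ∈ (P : Subgroup G) := (h.syl _).mpr ⟨m, hm, rfl⟩

theorem eq_map (h : Hyp t φ P) : (P : Subgroup G) = Tm.map φ := by
  ext x
  rw [h.syl, Subgroup.mem_map]
  simp only [mem_Tm]

theorem card_P (h : Hyp t φ P) : Nat.card (P : Subgroup G) = 16 := by
  rw [h.eq_map, Subgroup.card_map_of_injective h.inj,
    Nat.card_congr (Equiv.subtypeEquivRight fun m => mem_Tm), Nat.card_eq_fintype_card, card_T]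

theorem comm_t (h : Hyp t φ P) (m : M) (hm : m * a0 = a0 * m) : φ m * t = t * φ m := by
  rw [← h.ha, ← map_mul, hm, map_mul]

theorem comm_t' (h : Hyp t φ P) (m : M) : φ m * t = t * φ m := by
  refine h.comm_t m ?_
  revert m
  decide +kernel

theorem inv_map (h : Hyp t φ P) {m : M} (hm : IsInv m) : orderOf (φ m) = 2 :=
  CfsgLib.Involutions.orderOf_eq_two_iff'.mpr ⟨by rw [← map_mul, hm.1, map_one],
    fun e => hm.2 (h.inj (by rw [e, map_one]))⟩

theorem inv_of_orderOf (h : Hyp t φ P) {m : M} (hm : orderOf (φ m) = 2) : IsInv m := by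
  obtain ⟨h1, h2⟩ := CfsgLib.Involutions.orderOf_eq_two_iff'.mp hm
  exact ⟨h.inj (by rw [map_mul, h1, map_one]), fun e => h2 (by rw [e, map_one])⟩

theorem ord_t (h : Hyp t φ P) : orderOf t = 2 := h.ha ▸ h.inv_map mark.1.1

/-- A `2`-subgroup of `D ⊇ P` is carried into `P` by an element of `D`. -/
theorem conj_into [Finite G] (P : Sylow 2 G) {D : Subgroup G} (hPD : (P : Subgroup G) ≤ D) {A : Subgroup G}
    (hA : IsPGroup 2 A) (hAD : A ≤ D) : ∃ d ∈ D, ∀ a ∈ A, d * a * d⁻¹ ∈ (P : Subgroup G) := by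
  haveI : Fact (Nat.Prime 2) := ⟨Nat.prime_two⟩
  obtain ⟨S, hS⟩ := (hA.of_equiv (Subgroup.subgroupOfEquivOfLe hAD).symm).exists_le_sylow
  obtain ⟨d, hd⟩ := MulAction.exists_smul_eq D S (P.subtype hPD)
  refine ⟨d, d.2, fun a ha => ?_⟩
  have h1 : MulAut.conj d • (⟨a, hAD ha⟩ : D) ∈ (MulAut.conj d • (S : Subgroup D)) :=
    Subgroup.smul_mem_pointwise_smul _ _ _ (hS (Subgroup.mem_subgroupOf.mpr ha))
  rw [← Sylow.coe_subgroup_smul, hd, Sylow.coe_subtype, Subgroup.mem_subgroupOf] at h1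
  exact h1

/-- A `2`-element of `D ⊇ P` is carried into `P` by an element of `D`. -/
theorem elem_into [Finite G] (P : Sylow 2 G) {D : Subgroup G} (hPD : (P : Subgroup G) ≤ D) {x : G} (hx : x ∈ D)
    {k : ℕ} (hk : x ^ 2 ^ k = 1) : ∃ d ∈ D, d * x * d⁻¹ ∈ (P : Subgroup G) := by
  haveI : Fact (Nat.Prime 2) := ⟨Nat.prime_two⟩
  obtain ⟨j, -, hj⟩ := (Nat.dvd_prime_pow Nat.prime_two).mp (orderOf_dvd_of_pow_eq_one hk)
  obtain ⟨d, hd, hd'⟩ := conj_into P hPD (A := zpowers x)
    (IsPGroup.of_card (n := j) (by rw [Nat.card_zpowers, hj])) (zpowers_le.mpr hx)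
  exact ⟨d, hd, hd' x (mem_zpowers x)⟩

theorem P_le_cent (h : Hyp t φ P) {m : M} (hm : m = a0 ∨ m = z0 ∨ m = az) :
    (P : Subgroup G) ≤ centralizer ({φ m} : Set G) := by
  intro x hx
  obtain ⟨n, hn, rfl⟩ := (h.syl x).mp hx
  rw [mem_centralizer_singleton_iff, ← map_mul, ← map_mul, central_T m n hm hn]

/-- An element normalising `P` lies in `P`. -/
theorem normalizer_le (h : Hyp t φ P) {g : G} (hg : ∀ x ∈ (P : Subgroup G), g * x * g⁻¹ ∈ (P : Subgroup G)) :
    g ∈ (P : Subgroup G) := by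
  obtain ⟨-, -, -, hv, -, hs, -⟩ := basic_mem
  obtain ⟨m1, hm1, e1⟩ := (h.syl _).mp (hg _ (h.mem hv))
  obtain ⟨m2, hm2, e2⟩ := (h.syl _).mp (hg _ (h.mem hs))
  have e : g * φ z0 * g⁻¹ = φ (m1 * m2 * m1⁻¹ * m2⁻¹) := by
    rw [← comm_eq]
    simp only [map_mul, map_inv, e1, e2]
    group
  rcases comm_T m1 m2 hm1 hm2 with c | c
  · rw [c, map_one, conj_eq_one_iff] at e
    exact absurd (h.inj (e.trans (map_one φ).symm)) (by decide +kernel)
  · rw [c] at e
    obtain ⟨k, hk, rfl⟩ := h.cz g (mul_inv_eq_iff_eq_mul.mp e)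
    exact h.mem hk

/-- The three central involutions are pairwise non-conjugate. -/
theorem central_eq [Finite G] (h : Hyp t φ P) {m n : M} (hm : m = a0 ∨ m = z0 ∨ m = az)
    (hn : n = a0 ∨ n = z0 ∨ n = az) (hc : IsConj (φ m) (φ n)) : m = n := by
  obtain ⟨g, hg⟩ := isConj_iff.mp hc
  have hA : (P : Subgroup G).map (MulAut.conj g).toMonoidHom ≤ centralizer ({φ n} : Set G) := by
    rintro _ ⟨x, hx, rfl⟩
    have := mem_centralizer_singleton_iff.mp (h.P_le_cent hm hx)
    rw [mem_centralizer_singleton_iff, MulEquiv.coe_toMonoidHom, MulAut.conj_apply, ← hg, conj_mul, conj_mul,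
      this]
  obtain ⟨d, hd, hd'⟩ := conj_into P (h.P_le_cent hn) (P.2.map _) hA
  have hdg : d * g ∈ (P : Subgroup G) := h.normalizer_le fun x hx => by
    have := hd' _ ⟨x, hx, rfl⟩
    simpa only [MulEquiv.coe_toMonoidHom, MulAut.conj_apply, mul_inv_rev, mul_assoc] using this
  obtain ⟨k, hk, e⟩ := (h.syl _).mp hdg
  refine h.inj ?_
  calc φ m = φ k * φ m * (φ k)⁻¹ := by rw [← map_inv, ← map_mul, ← map_mul, ← central_T m k hm hk, mul_inv_cancel_right]
    _ = d * (g * φ m * g⁻¹) * d⁻¹ := by rw [e]; group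
    _ = φ n := by rw [hg, mem_centralizer_singleton_iff.mp hd, mul_inv_cancel_right]

theorem not_conj_tz [Finite G] (h : Hyp t φ P) : ¬ IsConj t (φ z0) := fun hc => by
  rw [← h.ha] at hc
  exact absurd (h.central_eq (Or.inl rfl) (Or.inr (Or.inl rfl)) hc) (by decide +kernel)

/-- Every involution is conjugate into `P`. -/
theorem inv_into [Finite G] (h : Hyp t φ P) {x : G} (hx : orderOf x = 2) :
    ∃ g m, InT m ∧ IsInv m ∧ g * x * g⁻¹ = φ m := by
  obtain ⟨g, -, hg⟩ := elem_into P (D := ⊤) le_top (mem_top x) (k := 1)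
    (by rw [pow_one, ← hx, pow_orderOf_eq_one])
  obtain ⟨m, hm, e⟩ := (h.syl _).mp hg
  exact ⟨g, m, hm, h.inv_of_orderOf (by rw [e, CfsgLib.Involutions.orderOf_conj, hx]), e.symm⟩

theorem card_cent (h : Hyp t φ P) : Nat.card ↥(centralizer ({t} : Set G)) = 48 := by
  have : centralizer ({t} : Set G) = φ.range := by
    ext x
    rw [mem_centralizer_singleton_iff]
    exact ⟨fun hx => h.cent x hx, fun ⟨m, e⟩ => e ▸ h.comm_t' m⟩
  rw [this, ← Nat.card_congr (MonoidHom.ofInjective h.inj).toEquiv, Nat.card_eq_fintype_card, card_M]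

theorem card_cz (h : Hyp t φ P) : Nat.card ↥(centralizer ({φ z0} : Set G)) = 16 := by
  have : centralizer ({φ z0} : Set G) = P := by
    ext x
    rw [mem_centralizer_singleton_iff, h.syl]
    exact ⟨fun hx => h.cz x hx, fun ⟨m, hm, e⟩ => by rw [← e, ← map_mul, ← map_mul, (hm : m * z0 = z0 * m)]⟩
  rw [this]
  exact h.card_P

/-- An odd-order element centralising a conjugate of `z` is trivial. -/
theorem odd_cz (h : Hyp t φ P) {g w n : G} (hw : g * w * g⁻¹ = φ z0) (hn : n * w = w * n) (ho : Odd (orderOf n)) :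
    n = 1 := by
  obtain ⟨m, hm, e⟩ := h.cz (g * n * g⁻¹) (by rw [← hw, conj_mul, conj_mul, hn])
  have h1 : orderOf n ∣ 16 := orderOf_dvd_of_pow_eq_one (by
    have h16 : φ m ^ 16 = 1 := by rw [← map_pow, pow_sixteen_T m hm, map_one]
    rw [e, conj_pow, conj_eq_one_iff] at h16
    exact h16)
  have h2 : Nat.Coprime (orderOf n) (2 ^ 4) := (Nat.coprime_two_right.mpr ho).pow_right 4
  exact orderOf_eq_one_iff.mp (Nat.dvd_one.mp (h2.gcd_eq_one ▸ Nat.dvd_gcd dvd_rfl h1))

end Hyp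

end CfsgLib.TwoS4
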