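/-
Two elementary bounds on conjugacy orbits.
-/
import Mathlib

set_option autoImplicit false

namespace CfsgLib.TwoS4

open Subgroup

variable {G : Type*} [Group G] [Finite G]

/-- The orbit of `x` under `D` has at most `|D : S|` members if `S ≤ D` centralises `x`. -/
theorem orbit_le {D S : Subgroup G} (hS : S ≤ D) {x : G} (hx : ∀ s ∈ S, s * x = x * s) :
    {y : G | ∃ d ∈ D, d * x * d⁻¹ = y}.ncard * Nat.card ↥S ≤ Nat.card ↥D := by
  rw [← Nat.card_congr (Subgroup.subgroupOfEquivOfLe hS).toEquiv, ← index_mul_card (S.subgroupOf D)]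
  refine Nat.mul_le_mul_right _ ?_
  rw [← Nat.card_coe_set_eq, Subgroup.index_eq_card]
  refine Nat.card_le_card_of_surjective
    (fun q : D ⧸ S.subgroupOf D => ⟨(q.out : G) * x * (q.out : G)⁻¹, _, q.out.2, rfl⟩) ?_
  rintro ⟨y, d, hd, rfl⟩
  obtain ⟨s, hs⟩ := QuotientGroup.mk_out_eq_mul (S.subgroupOf D) ⟨d, hd⟩
  refine ⟨QuotientGroup.mk ⟨d, hd⟩, Subtype.ext ?_⟩
  show _ * x * _⁻¹ = d * x * d⁻¹
  rw [hs, Subgroup.coe_mul, mul_inv_rev]
  have := hx _ (Subgroup.mem_subgroupOf.mp s.2)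
  calc d * ↑↑s * x * ((↑↑s)⁻¹ * d⁻¹) = d * (↑↑s * x) * (↑↑s)⁻¹ * d⁻¹ := by group
    _ = d * x * d⁻¹ := by rw [this]; group

/-- A class inside a set of `k` elements gives a bound on the group order. -/
theorem card_le_of_class {x : G} {S : Set G} (hS : S.Finite) (h : ∀ g : G, g * x * g⁻¹ ∈ S) :
    Nat.card G ≤ S.ncard * Nat.card ↥(centralizer ({x} : Set G)) := by
  rw [← index_mul_card (centralizer ({x} : Set G))]
  refine Nat.mul_le_mul_right _ ?_
  rw [Subgroup.index_eq_card, ← Nat.card_coe_set_eq]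
  haveI := hS.to_subtype
  refine Nat.card_le_card_of_injective
    (fun q : G ⧸ centralizer ({x} : Set G) => (⟨q.out * x * q.out⁻¹, h _⟩ : S)) ?_
  intro q r e
  have e' : q.out * x * q.out⁻¹ = r.out * x * r.out⁻¹ := congrArg Subtype.val e
  rw [← QuotientGroup.out_eq' q, ← QuotientGroup.out_eq' r, QuotientGroup.eq, mem_centralizer_singleton_iff]
  calc q.out⁻¹ * r.out * x = q.out⁻¹ * (r.out * x * r.out⁻¹) * r.out := by group
    _ = x * (q.out⁻¹ * r.out) := by rw [← e']; group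

end CfsgLib.TwoS4
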