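/-
The case in which no element outside the Sylow 2-subgroup normalises its second elementary abelian subgroup
of order 8: the whole group is the centraliser of `t`.
-/
import Cfsg.Agent.Lib.TwoS4.Basic
import Cfsg.Agent.Lib.TwoS4.Count
import Cfsg.Agent.Lib.TwoFusion.CATriple
import Cfsg.Agent.S0111

set_option autoImplicit false
set_option linter.style.haveILetI false
set_option synthInstance.maxSize 4000
set_option maxHeartbeats 1000000

namespace CfsgLib.TwoS4

open Subgroup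

variable {G : Type*} [Group G] [Finite G] {t : G} {φ : M →* G} {P : Sylow 2 G}

/-- The four-group of the second factor, as a subgroup. -/
def Vm : Subgroup M where
  carrier := {m | InV m}
  mul_mem' {a b} ha hb := (V_facts a b ha hb).2.2.2.1
  one_mem' := Or.inl rfl
  inv_mem' {a} ha := (V_facts a a ha ha).2.2.2.2

theorem mem_Vm {m : M} : m ∈ Vm ↔ InV m := Iff.rfl

theorem V_conj_z : ∀ m : M, InV m → m ≠ 1 → ∃ k : M, k * m * k⁻¹ = z0 := by decide +kernel

theorem V_gen : ∀ m : M, InV m → ∃ i j : Fin 3, m = 1 ∨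
    m = c0 ^ (i : ℕ) * (v0 * c0 * v0⁻¹ * c0⁻¹) * (c0 ^ (i : ℕ))⁻¹ := by decide +kernel

theorem V_norm : ∀ k m : M, InT k → InV m → InV (k * m * k⁻¹) := by decide +kernel

theorem c0_V : ∀ m : M, InV m → InV (c0 * m * c0⁻¹) := by decide +kernel

theorem T_center : ∀ m : M, InT m → m ≠ 1 → (m ≠ a0 ∧ m ≠ z0 ∧ m ≠ az) →
    ∃ k : M, InT k ∧ m * k * m⁻¹ * k⁻¹ = z0 := by decide +kernel

theorem a0_fst : ¬ (MonoidHom.fst (Multiplicative (ZMod 2)) (Equiv.Perm (Fin 4))) a0 = 1 := by decide +kernel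

theorem small_facts : as0 = a0 * s0 ∧ z0 * z0 = 1 ∧ c0 * c0 * c0 = 1 ∧ z0 ≠ 1 := by decide +kernel

theorem c0_ne : c0 * z0 ≠ z0 * c0 ∧ c0 * az ≠ az * c0 := by decide +kernel

/-- `Q` of half the order has relative index two. -/
theorem relIndex_two {Q R : Subgroup G} (hQ : Q ≤ R) (h : 2 * Nat.card ↥Q = Nat.card ↥R) : Q.relIndex R = 2 := by
  have h1 := Subgroup.index_mul_card (Q.subgroupOf R)
  rw [Nat.card_congr (Subgroup.subgroupOfEquivOfLe hQ).toEquiv, ← h] at h1
  exact Nat.eq_of_mul_eq_mul_right Nat.card_pos h1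

theorem caseA_not_conj (h : Hyp t φ P)
    (hA : ∀ g : G, (∀ m, InE2 m → ∃ n, InE2 n ∧ φ n = g * φ m * g⁻¹) → ∃ k, InT k ∧ φ k = g)
    {x y : M} (hx : x = s0 ∨ x = as0) (hy : y = a0 ∨ y = z0 ∨ y = az) : ¬ IsConj (φ x) (φ y) := by
  intro hc
  obtain ⟨g, hg⟩ := isConj_iff.mp hc
  have hxE : InE2 x := by rcases hx with rfl | rfl <;> decide +kernel
  have hAD : (E2m.map φ).map (MulAut.conj g).toMonoidHom ≤ centralizer ({φ y} : Set G) := by
    rintro _ ⟨_, ⟨m, hm, rfl⟩, rfl⟩
    rw [mem_centralizer_singleton_iff, MulEquiv.coe_toMonoidHom, MulAut.conj_apply, ← hg, conj_mul, conj_mul,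
      ← map_mul, ← map_mul, (E_comm m x (mem_E2m.mp hm) hxE).1]
  have hA2 : IsPGroup 2 ↥((E2m.map φ).map (MulAut.conj g).toMonoidHom) := by
    refine (P.2.to_le ?_).map _
    rintro _ ⟨m, hm, rfl⟩
    exact h.mem (mem_E2m.mp hm).1
  obtain ⟨d, hd, hd'⟩ := Hyp.conj_into P (h.P_le_cent hy) hA2 hAD
  set k := d * g with hk
  have hmap : ∀ m : {m : M // InE2 m}, ∃ n : M, InT n ∧ φ n = k * φ m * k⁻¹ := by
    intro m
    obtain ⟨n, hn, e⟩ := (h.syl _).mp (hd' _ ⟨_, ⟨m, mem_E2m.mpr m.2, rfl⟩, rfl⟩)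
    refine ⟨n, hn, e.trans ?_⟩
    simp only [hk, MulEquiv.coe_toMonoidHom, MulAut.conj_apply, mul_inv_rev, mul_assoc]
  choose f hfT hf using hmap
  have finj : Function.Injective f := fun a b e => by
    have : k * φ a * k⁻¹ = k * φ b * k⁻¹ := by rw [← hf, ← hf, e]
    exact Subtype.ext (h.inj (mul_left_cancel (mul_right_cancel this)))
  have fcomm : ∀ a b, f a * f b = f b * f a ∧ f a * f a = 1 := fun a b => by
    obtain ⟨e1, e2⟩ := E_comm a.1 b.1 a.2 b.2
    refine ⟨h.inj ?_, h.inj ?_⟩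
    · rw [map_mul, map_mul, hf, hf, conj_mul, conj_mul, ← map_mul, ← map_mul, e1]
    · rw [map_mul, hf, conj_mul, ← map_mul, e2, map_one, mul_one, mul_inv_cancel]
  obtain ⟨a, ha⟩ : ∃ a, ¬ (f a = 1 ∨ f a = a0 ∨ f a = z0 ∨ f a = az) := by
    by_contra hne
    push Not at hne
    have hle := Fintype.card_le_of_injective
      (fun a => (⟨f a, hne a⟩ : {m : M // m = 1 ∨ m = a0 ∨ m = z0 ∨ m = az}))
      (fun a b e => finj (congrArg Subtype.val e))
    rw [card_E2, four_T] at hle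
    omega
  push Not at ha
  have hkx : φ y = k * φ x * k⁻¹ := by
    have := mem_centralizer_singleton_iff.mp hd
    rw [hk, mul_inv_rev, show d * g * φ x * (g⁻¹ * d⁻¹) = d * (g * φ x * g⁻¹) * d⁻¹ by group, hg, this]
    group
  rcases E_cases (f a) (hfT a) (fcomm a a).2 ha.1 ha.2.1 ha.2.2.1 ha.2.2.2 with hE | hE
  · -- the image is the first elementary abelian subgroup
    have hbij : Function.Bijective (fun b => (⟨f b, hE _ (hfT b) (fcomm b a).1⟩ : {m : M // InE1 m})) :=
      (Fintype.bijective_iff_injective_and_card _).mpr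
        ⟨fun p q e => finj (congrArg Subtype.val e), by rw [card_E1, card_E2]⟩
    obtain ⟨n, hn, e⟩ := hA (k⁻¹ * φ c0 * k) fun m hm => by
      obtain ⟨b, hb⟩ := hbij.2 ⟨c0 * f ⟨m, hm⟩ * c0⁻¹, normalize_E1 _ (hE _ (hfT _) (fcomm _ a).1)⟩
      refine ⟨b, b.2, ?_⟩
      have hb' : f b = c0 * f ⟨m, hm⟩ * c0⁻¹ := congrArg Subtype.val hb
      have e2 := hf b
      rw [hb', map_mul, map_mul, map_inv, hf ⟨m, hm⟩] at e2
      rw [show φ (b : M) = k⁻¹ * (k * φ b * k⁻¹) * k by group, ← e2]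
      group
    have h16 : φ (n ^ 16) = 1 := by rw [pow_sixteen_T n hn, map_one]
    have e3 : φ n = k⁻¹ * φ c0 * k⁻¹⁻¹ := by rw [e, inv_inv]
    rw [map_pow, e3, conj_pow, conj_eq_one_iff, ← map_pow] at h16
    exact conj_facts.2.2.2.2.2.2.2.1 (h.inj (by rw [h16, map_one]))
  · -- the image is the second one
    have hbij : Function.Bijective (fun b => (⟨f b, hE _ (hfT b) (fcomm b a).1⟩ : {m : M // InE2 m})) :=
      (Fintype.bijective_iff_injective_and_card _).mpr
        ⟨fun p q e => finj (congrArg Subtype.val e), rfl⟩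
    obtain ⟨n, hn, e⟩ := hA k fun m hm => ⟨f ⟨m, hm⟩, hE _ (hfT _) (fcomm _ a).1, hf _⟩
    rw [← e, ← map_inv, ← map_mul, ← map_mul] at hkx
    have e4 := h.inj hkx
    have e5 : y = x := by
      have := central_T y n hy hn
      calc y = n⁻¹ * (y * n) := by rw [this, inv_mul_cancel_left]
        _ = x := by rw [e4]; group
    rcases hx with rfl | rfl <;> rcases hy with hy | hy | hy <;>
      exact absurd (e5.symm.trans hy) (by decide +kernel)

theorem caseA_core (h : Hyp t φ P)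
    (hnc : ∀ x y : M, (x = s0 ∨ x = as0) → (y = a0 ∨ y = z0 ∨ y = az) → ¬ IsConj (φ x) (φ y)) :
    Nat.card G ≤ 48 := by
  classical
  haveI : Fact (Nat.Prime 2) := ⟨Nat.prime_two⟩
  haveI : Fintype G := Fintype.ofFinite G
  obtain ⟨hTa0, hTz0, -, hTv0, -, hTs0, -, hTas0, -⟩ := basic_mem
  -- first transfer
  set Q : Subgroup G := (Tm ⊓ (MonoidHom.fst (Multiplicative (ZMod 2)) (Equiv.Perm (Fin 4))).ker).map φ with hQdef
  have hQP : Q ≤ P := by rw [h.eq_map]; exact Subgroup.map_mono inf_le_left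
  have hQcard : Nat.card ↥Q = 8 := by
    rw [Subgroup.card_map_of_injective h.inj,
      Nat.card_congr (Equiv.subtypeEquivRight (fun m : M => show m ∈ _ ↔ InT m ∧ m.1 = 1 by
        rw [mem_inf, mem_Tm, MonoidHom.mem_ker]; rfl)), Nat.card_eq_fintype_card, card_D8]
  have htP : t ∈ (P : Subgroup G) := h.ha ▸ h.mem hTa0
  obtain ⟨K1, hK1n, hK1i, htK1⟩ := (Cfsg.Agent.S0111.result P Q hQP
    (relIndex_two hQP (by rw [hQcard, h.card_P])) t h.ord_t htP (by
      rintro ⟨m, hm, e⟩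
      have := (MonoidHom.mem_ker.mp (mem_inf.mp hm).2)
      rw [h.inj (e.trans h.ha.symm)] at this
      exact a0_fst this)).resolve_right (by
      rintro ⟨g, m, hm, e⟩
      obtain ⟨hmT, hm1⟩ := mem_inf.mp hm
      have hi := h.inv_of_orderOf (m := m) (by rw [e, CfsgLib.Involutions.orderOf_conj, h.ord_t])
      have hc : IsConj t (φ m) := isConj_iff.mpr ⟨g, e.symm⟩
      obtain ⟨k, hk | hk⟩ := D8_inv m (mem_Tm.mp hmT) (MonoidHom.mem_ker.mp hm1) hi.1 hi.2
      · exact h.not_conj_tz (hc.trans (isConj_iff.mpr ⟨(φ k)⁻¹, by rw [← hk, map_mul, map_mul, map_inv]; group⟩))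
      · refine hnc s0 a0 (Or.inl rfl) (Or.inl rfl) (IsConj.trans ?_ ((h.ha.symm ▸ hc.symm : IsConj (φ m) (φ a0))))
        exact isConj_iff.mpr ⟨φ k, by rw [← map_inv, ← map_mul, ← map_mul, hk]⟩)
  haveI := hK1n
  -- choose the involution outside the second transfer subgroup
  obtain ⟨x, hx, hxK⟩ : ∃ x, (x = s0 ∨ x = as0) ∧ φ x ∈ K1 := by
    by_cases hs : φ s0 ∈ K1
    · exact ⟨s0, Or.inl rfl, hs⟩
    · refine ⟨as0, Or.inr rfl, ?_⟩
      rw [small_facts.1, map_mul, h.ha, Subgroup.mul_mem_iff_of_index_two hK1i]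
      exact iff_of_false htK1 hs
  obtain ⟨hxT, hxI, hx4, hx2, hx1, hxq1, hxq2, hxq3⟩ := cyclic_four x hx
  have hzK1 : φ z0 ∈ K1 := by rw [← hx2, map_pow]; exact Subgroup.sq_mem_of_index_two hK1i _
  have hVK1 : ∀ m, InV m → φ m ∈ K1 := fun m hm => by
    by_cases h1 : m = 1
    · rw [h1, map_one]; exact one_mem _
    obtain ⟨k, hk⟩ := V_conj_z m hm h1
    have := hK1n.conj_mem _ hzK1 (φ k)⁻¹
    rw [← hk] at this
    simpa [mul_assoc] using this
  -- the Sylow subgroup of `K1`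
  set A1 : Subgroup ↥K1 := ((P : Subgroup G) ⊓ K1).subgroupOf K1 with hA1
  have hA1p : IsPGroup 2 ↥A1 := (P.2.to_le inf_le_left).of_equiv (Subgroup.subgroupOfEquivOfLe inf_le_right).symm
  obtain ⟨P1, hP1⟩ := hA1p.exists_le_sylow
  have hA1c : Nat.card ↥A1 = 8 := by
    rw [Nat.card_congr (Subgroup.subgroupOfEquivOfLe inf_le_right).toEquiv]
    have h1 := Subgroup.index_mul_card (((P : Subgroup G) ⊓ K1).subgroupOf (P : Subgroup G))
    rw [Nat.card_congr (Subgroup.subgroupOfEquivOfLe inf_le_left).toEquiv, h.card_P] at h1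
    have h2 : (((P : Subgroup G) ⊓ K1).subgroupOf (P : Subgroup G)).index = 2 := by
      have e : ((P : Subgroup G) ⊓ K1).relIndex (P : Subgroup G) = K1.relIndex (P : Subgroup G) := by
        rw [inf_comm, Subgroup.inf_relIndex_right]
      show ((P : Subgroup G) ⊓ K1).relIndex (P : Subgroup G) = 2
      rw [e]
      rcases (Nat.dvd_prime Nat.prime_two).mp (hK1i ▸ (Subgroup.relIndex_dvd_index_of_normal (H := K1) (K := (P : Subgroup G)))) with e1 | e1
      · exact absurd (Subgroup.relIndex_eq_one.mp e1 htP) htK1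
      · exact e1
    rw [h2] at h1
    omega
  have hG16 : ¬ 32 ∣ Nat.card G := fun hd => by
    rw [← Subgroup.index_mul_card (P : Subgroup G), h.card_P] at hd
    exact P.not_dvd_index ((Nat.mul_dvd_mul_iff_right (by norm_num : 0 < 16)).mp (show 2 * 16 ∣ _ from hd))
  have hP1c : Nat.card (P1 : Subgroup ↥K1) = 8 := by
    refine le_antisymm ?_ (hA1c ▸ Nat.card_le_card_of_injective _ (Subgroup.inclusion_injective hP1))
    obtain ⟨j, hj⟩ := IsPGroup.iff_card.mp P1.2
    rw [hj]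
    refine show 2 ^ j ≤ 2 ^ 3 from Nat.pow_le_pow_right (by norm_num) ?_
    by_contra hlt
    refine hG16 ?_
    rw [← Subgroup.index_mul_card K1, hK1i, show 32 = 2 * 2 ^ 4 by norm_num]
    refine mul_dvd_mul_left 2 ((pow_dvd_pow 2 (by omega : 4 ≤ j)).trans ?_)
    rw [← hj]
    exact Subgroup.card_subgroup_dvd_card _
  -- second transfer
  set q : ↥K1 := ⟨φ (x * v0), by rw [map_mul]; exact mul_mem hxK (hVK1 _ (Or.inr (Or.inr (Or.inl rfl))))⟩ with hq
  have hqv : ∀ k : ℕ, ((q ^ k : ↥K1) : G) = φ ((x * v0) ^ k) := fun k => by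
    rw [Subgroup.coe_pow, map_pow]
  have hqo : orderOf q = 2 ^ 2 := by
    refine orderOf_eq_prime_pow (fun e => ?_) (Subtype.ext ?_)
    · have := congrArg Subtype.val e
      rw [hqv, pow_one, hx2] at this
      exact absurd (h.inj (this.trans (map_one φ).symm)) (by decide +kernel)
    · rw [hqv]; norm_num [hx4]
  have hqA : q ∈ A1 := Subgroup.mem_subgroupOf.mpr (mem_inf.mpr ⟨h.mem (mul_mem (mem_Tm.mpr hxT) (mem_Tm.mpr hTv0) |> mem_Tm.mp), q.2⟩)
  obtain ⟨K2, hK2n, hK2i, hxK2⟩ := (Cfsg.Agent.S0111.result P1 (zpowers q) (zpowers_le.mpr (hP1 hqA))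
    (relIndex_two (zpowers_le.mpr (hP1 hqA)) (by rw [Nat.card_zpowers, hqo, hP1c]; norm_num)) ⟨φ x, hxK⟩
    (by rw [← Subgroup.orderOf_coe]; exact h.inv_map hxI)
    (hP1 (Subgroup.mem_subgroupOf.mpr (mem_inf.mpr ⟨h.mem hxT, hxK⟩))) (fun hm => by
      obtain ⟨k, hk, e⟩ := (Finset.mem_image.mp ((mem_zpowers_iff_mem_range_orderOf).mp hm))
      rw [Finset.mem_range, hqo] at hk
      have e' := congrArg Subtype.val e
      rw [hqv] at e'
      have e'' := h.inj e'
      interval_cases k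
      · exact hx1 (e''.symm.trans (pow_zero _))
      · exact hxq1 (e''.symm.trans (pow_one _))
      · exact hxq2 e''.symm
      · exact hxq3 e''.symm)).resolve_right (by
    rintro ⟨g, hm⟩
    obtain ⟨k, hk, e⟩ := (Finset.mem_image.mp ((mem_zpowers_iff_mem_range_orderOf).mp hm))
    rw [Finset.mem_range, hqo] at hk
    have e' := congrArg Subtype.val e
    rw [hqv] at e'
    push_cast at e'
    have hord := congrArg orderOf e'
    rw [CfsgLib.Involutions.orderOf_conj, h.inv_map hxI] at hord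
    have hI := h.inv_of_orderOf hord
    interval_cases k
    · exact hI.2 (pow_zero _)
    · have := hI.1
      rw [pow_one, ← pow_two, hx2] at this
      exact absurd this (by decide +kernel)
    · rw [hx2] at e'
      exact hnc x z0 hx (Or.inr (Or.inl rfl)) (isConj_iff.mpr ⟨g, e'.symm⟩)
    · have := hI.1
      rw [← pow_add, show 3 + 3 = 4 + 2 by norm_num, pow_add, hx4, one_mul, hx2] at this
      exact absurd this (by decide +kernel))
  haveI := hK2n
  -- the 2-residual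
  set K : Subgroup G := Cfsg.pResidual 2 G with hKdef
  haveI : K.Normal := inferInstance
  have hKK1 : K ≤ K1 := Transfer.pResidual_le_of_isPGroup_quotient K1
    (IsPGroup.of_card (n := 1) (by rw [← Subgroup.index_eq_card, hK1i, pow_one]))
  have hKK2 : ∀ y (hy : y ∈ K), (⟨y, hKK1 hy⟩ : ↥K1) ∈ K2 := by
    intro y hy
    have h1 := Transfer.le_ker_of_isPGroup (G := ↥K) (p := 2)
      (IsPGroup.of_card (n := 1) (by rw [← Subgroup.index_eq_card, hK2i, pow_one]))
      ((QuotientGroup.mk' K2).comp (Subgroup.inclusion hKK1))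
    rw [show Cfsg.pResidual 2 ↥K = ⊤ from Transfer.pResidual_pResidual] at h1
    have := h1 (mem_top (⟨y, hy⟩ : ↥K))
    rwa [MonoidHom.mem_ker, MonoidHom.comp_apply, QuotientGroup.mk'_apply, QuotientGroup.eq_one_iff] at this
  obtain ⟨-, -, -, -, -, hc3, hc1, hc16, -⟩ := conj_facts
  have hc0o : orderOf (φ c0) = 3 := orderOf_eq_prime (by rw [← map_pow, hc3, map_one])
    (fun e => hc1 (h.inj (by rw [e, map_one])))
  have hcK : φ c0 ∈ K := Transfer.mem_pResidual_of_coprime (by rw [hc0o]; norm_num)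
  have hVK : ∀ m, InV m → φ m ∈ K := fun m hm => by
    obtain ⟨i, -, rfl | rfl⟩ := V_gen m hm
    · rw [map_one]; exact one_mem _
    · simp only [map_mul, map_inv, map_pow]
      exact (inferInstance : K.Normal).conj_mem _
        (mul_mem ((inferInstance : K.Normal).conj_mem _ hcK _) (inv_mem hcK)) _
  have hKP : ∀ m, InT m → φ m ∈ K → InV m := by
    intro m hm hmK
    rcases V_cases m x hm hx with c | c | c | c
    · exact c
    · refine absurd (hKK1 ?_) htK1
      have := mul_mem (hVK _ c) (inv_mem hmK)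
      rwa [map_mul, mul_inv_cancel_right, h.ha] at this
    · refine absurd (hKK2 (φ x) ?_) hxK2
      have := mul_mem (hVK _ c) (inv_mem hmK)
      rwa [map_mul, mul_inv_cancel_right] at this
    · refine absurd ?_ htK1
      have h2 := hKK1 (mul_mem (hVK _ c) (inv_mem hmK))
      rw [map_mul, mul_inv_cancel_right, map_mul, h.ha] at h2
      exact (Subgroup.mul_mem_cancel_right _ hxK).mp h2
  have hKinv : ∀ y ∈ K, orderOf y = 2 → ∃ g : G, g * y * g⁻¹ = φ z0 := by
    intro y hy ho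
    obtain ⟨g, m, hm, hmI, e⟩ := h.inv_into ho
    obtain ⟨k, hk⟩ := V_conj_z m (hKP m hm (e ▸ (inferInstance : K.Normal).conj_mem y hy g)) hmI.2
    refine ⟨φ k * g, ?_⟩
    rw [← hk, map_mul, map_mul, map_inv, ← e]
    group
  -- Sylow of the residual
  set Vg : Subgroup G := Vm.map φ with hVg
  have hVgK : Vg ≤ K := by rintro _ ⟨m, hm, rfl⟩; exact hVK m hm
  have hVgc : Nat.card ↥Vg = 4 := by
    rw [Subgroup.card_map_of_injective h.inj, Nat.card_congr (Equiv.subtypeEquivRight fun m => mem_Vm),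
      Nat.card_eq_fintype_card, card_V]
  have hVgP : Vg ≤ P := by rintro _ ⟨m, hm, rfl⟩; exact h.mem (V_facts m m hm hm).1
  obtain ⟨TK, hTK⟩ := ((P.2.to_le hVgP).of_equiv (Subgroup.subgroupOfEquivOfLe hVgK).symm).exists_le_sylow
  have hTK' : (TK : Subgroup ↥K) = Vg.subgroupOf K := by
    refine (Subgroup.eq_of_le_of_card_ge hTK ?_).symm
    rw [Nat.card_congr (Subgroup.subgroupOfEquivOfLe hVgK).toEquiv]
    obtain ⟨g, -, hg⟩ := Hyp.conj_into P (D := ⊤) le_top (TK.2.map K.subtype) le_top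
    refine Nat.card_le_card_of_injective (fun y : (TK : Subgroup ↥K) => (⟨g * ((y : ↥K) : G) * g⁻¹, ?_⟩ : Vg)) ?_
    · obtain ⟨m, hm, e⟩ := (h.syl _).mp (hg _ ⟨y, y.2, rfl⟩)
      exact ⟨m, hKP m hm (e.symm ▸ (inferInstance : K.Normal).conj_mem _ (y : ↥K).2 g), e⟩
    · intro a b e
      have := congrArg Subtype.val e
      exact Subtype.ext (Subtype.ext (mul_left_cancel (mul_right_cancel this)))
  -- small classes of `z`
  have hsmall : (∀ g : G, g * φ z0 * g⁻¹ ∈ Vg) → Nat.card G ≤ 48 := by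
    intro hall
    have h1 := card_le_of_class (x := φ z0) (S := φ '' {z0, v0, w0}) (Set.toFinite _) (fun g => by
      obtain ⟨m, hm, e⟩ := hall g
      refine ⟨m, ?_, e⟩
      rcases (mem_Vm.mp hm) with rfl | rfl | rfl | rfl
      · rw [map_one] at e
        exact absurd (h.inj ((conj_eq_one_iff.mp e.symm).trans (map_one φ).symm)) (by decide +kernel)
      all_goals simp)
    rw [h.card_cz] at h1
    have h2 : (φ '' {z0, v0, w0}).ncard ≤ 3 := (Set.ncard_image_le (Set.toFinite _)).trans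
      ((Set.ncard_insert_le _ _).trans (by
        have := Set.ncard_insert_le v0 ({w0} : Set M)
        rw [Set.ncard_singleton] at this
        omega))
    exact h1.trans (by omega)
  -- elements of 2-power order normalising `TK` lie in it
  have hself : ∀ y : ↥K, y ∈ Subgroup.normalizer ((TK : Subgroup ↥K) : Set ↥K) → y * y = 1 → y ∈ (TK : Subgroup ↥K) := by
    intro y hy hy2
    have hz : IsPGroup 2 ↥(zpowers y) := by
      obtain ⟨j, -, hj⟩ := (Nat.dvd_prime_pow Nat.prime_two).mp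
        (orderOf_dvd_of_pow_eq_one (show y ^ 2 ^ 1 = 1 by rw [pow_one, pow_two, hy2]))
      exact IsPGroup.of_card (n := j) (by rw [Nat.card_zpowers, hj])
    have := TK.is_maximal' (IsPGroup.to_sup_of_normal_left' TK.2 hz (zpowers_le.mpr hy)) le_sup_left
    exact this ▸ (le_sup_right : zpowers y ≤ _) (mem_zpowers y)
  by_cases hnorm : (TK : Subgroup ↥K).Normal
  · refine hsmall fun g => ?_
    have hy : g * φ z0 * g⁻¹ ∈ K := (inferInstance : K.Normal).conj_mem _ (hVK _ (Or.inr (Or.inl rfl))) g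
    have := hself ⟨_, hy⟩ (by rw [Subgroup.normalizer_eq_top_iff.mpr hnorm]; exact mem_top _) (Subtype.ext (by
      show g * φ z0 * g⁻¹ * (g * φ z0 * g⁻¹) = 1
      rw [conj_mul, ← map_mul, small_facts.2.1, map_one, mul_one, mul_inv_cancel]))
    rw [hTK', Subgroup.mem_subgroupOf] at this
    exact this
  -- the simple case
  have hVsq : ∀ y : ↥K, y ∈ (TK : Subgroup ↥K) → y * y = 1 := by
    intro y hy
    rw [hTK', Subgroup.mem_subgroupOf] at hy
    obtain ⟨m, hm, e⟩ := hy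
    refine Subtype.ext ?_
    show (y : G) * y = 1
    rw [← e, ← map_mul, (V_facts m m hm hm).2.2.1, map_one]
  have hTKc : Nat.card (TK : Subgroup ↥K) = 4 := by
    rw [hTK', Nat.card_congr (Subgroup.subgroupOfEquivOfLe hVgK).toEquiv, hVgc]
  have hHyp : CfsgLib.CAGroup.Hyp TK := by
    refine ⟨fun hcyc => ?_, hnorm, fun y hy => ?_⟩
    · haveI := hcyc
      obtain ⟨g, hg⟩ := IsCyclic.exists_ofOrder_eq_natCard (α := (TK : Subgroup ↥K))
      have : orderOf g ∣ 2 := orderOf_dvd_of_pow_eq_one (Subtype.ext (by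
        rw [pow_two]; exact hVsq _ g.2))
      rw [hg, hTKc] at this
      norm_num at this
    · obtain ⟨g, hg⟩ := hKinv y y.2 (by rw [Subgroup.orderOf_coe, hy])
      have key : ∀ a ∈ centralizer ({y} : Set ↥K), ∃ m, InV m ∧ φ m = g * (a : G) * g⁻¹ := by
        intro a ha
        have hay : (a : G) * y = y * a := congrArg Subtype.val (mem_centralizer_singleton_iff.mp ha)
        obtain ⟨m, hm, e⟩ := h.cz (g * a * g⁻¹) (by rw [← hg, conj_mul, conj_mul, hay])
        exact ⟨m, hKP m hm (e ▸ (inferInstance : K.Normal).conj_mem _ a.2 g), e⟩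
      refine ⟨⟨⟨fun a b => Subtype.ext (Subtype.ext ?_)⟩⟩, fun a ha => Subtype.ext ?_⟩
      · obtain ⟨m, hm, em⟩ := key a a.2
        obtain ⟨n, hn, en⟩ := key b b.2
        have e1 := congrArg φ (V_facts m n hm hn).2.1
        rw [map_mul, map_mul, em, en, conj_mul, conj_mul] at e1
        exact mul_left_cancel (mul_right_cancel e1)
      · obtain ⟨m, hm, em⟩ := key a ha
        have e1 := congrArg φ (V_facts m m hm hm).2.2.1
        rw [map_mul, em, conj_mul, map_one, conj_eq_one_iff] at e1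
        show ((a ^ 2 : ↥K) : G) = 1
        rw [Subgroup.coe_pow, pow_two, e1]
  have hidx : (Subgroup.normalizer ((TK : Subgroup ↥K) : Set ↥K)).index = 5 := by
    rw [Subgroup.index_eq_card, CfsgLib.CAGroup.card_coset hHyp, hTKc]
  -- `|K| ≥ 60`
  have hNc : 12 ≤ Nat.card ↥(Subgroup.normalizer ((TK : Subgroup ↥K) : Set ↥K)) := by
    have h4 : 4 ∣ Nat.card ↥(Subgroup.normalizer ((TK : Subgroup ↥K) : Set ↥K)) :=
      hTKc ▸ Subgroup.card_dvd_of_le Subgroup.le_normalizer
    have hcN : (⟨φ c0, hcK⟩ : ↥K) ∈ Subgroup.normalizer ((TK : Subgroup ↥K) : Set ↥K) := by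
      refine Subgroup.mem_normalizer_iff.mpr fun y => ?_
      rw [hTK', Subgroup.mem_subgroupOf, Subgroup.mem_subgroupOf]
      show (y : G) ∈ Vg ↔ φ c0 * y * (φ c0)⁻¹ ∈ Vg
      constructor
      · rintro ⟨m, hm, e⟩
        exact ⟨_, c0_V m hm, by rw [map_mul, map_mul, map_inv, e]⟩
      · rintro ⟨m, hm, e⟩
        refine ⟨c0 * (c0 * m * c0⁻¹) * c0⁻¹, c0_V _ (c0_V _ hm), ?_⟩
        have e3 : φ c0 * φ c0 * φ c0 = 1 := by
          rw [← map_mul, ← map_mul, small_facts.2.2.1, map_one]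
        simp only [map_mul, map_inv, e]
        calc φ c0 * (φ c0 * (φ c0 * (y : G) * (φ c0)⁻¹) * (φ c0)⁻¹) * (φ c0)⁻¹
            = (φ c0 * φ c0 * φ c0) * y * (φ c0 * φ c0 * φ c0)⁻¹ := by group
          _ = y := by rw [e3, one_mul, inv_one, mul_one]
    have h3 : 3 ∣ Nat.card ↥(Subgroup.normalizer ((TK : Subgroup ↥K) : Set ↥K)) := by
      have := Subgroup.orderOf_dvd_natCard _ hcN
      rwa [← Subgroup.orderOf_coe, hc0o] at this
    exact Nat.le_of_dvd Nat.card_pos ((by norm_num : Nat.Coprime 3 4).mul_dvd_of_dvd_of_dvd h3 h4)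
  have hK60 : 60 ≤ Nat.card ↥K := by
    rw [← Subgroup.index_mul_card (Subgroup.normalizer ((TK : Subgroup ↥K) : Set ↥K)), hidx]
    omega
  have hKi : 4 ≤ K.index := by
    refine Nat.le_of_dvd (Nat.pos_of_ne_zero Subgroup.index_ne_zero_of_finite) ?_
    have h1 := Subgroup.relIndex_dvd_index_of_normal (H := K) (K := (P : Subgroup G))
    have h2 : K.relIndex (P : Subgroup G) = 4 := by
      have e : K ⊓ (P : Subgroup G) = Vg := le_antisymm (fun y hy => by
        obtain ⟨m, hm, rfl⟩ := (h.syl y).mp (mem_inf.mp hy).2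
        exact ⟨m, hKP m hm (mem_inf.mp hy).1, rfl⟩) (le_inf hVgK hVgP)
      rw [← Subgroup.inf_relIndex_right, e]
      have h3 := Subgroup.index_mul_card (Vg.subgroupOf (P : Subgroup G))
      rw [Nat.card_congr (Subgroup.subgroupOfEquivOfLe hVgP).toEquiv, hVgc, h.card_P] at h3
      show (Vg.subgroupOf (P : Subgroup G)).index = 4
      omega
    rwa [h2] at h1
  have hGbig : 240 ≤ Nat.card G := by
    rw [← Subgroup.index_mul_card K]
    exact le_trans (by norm_num) (Nat.mul_le_mul hKi hK60)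
  -- the normaliser of the four-group has index at most five
  set N : Subgroup G := Subgroup.normalizer (Vg : Set G) with hN
  have hPN : (P : Subgroup G) ≤ N := by
    intro p hp
    have key : ∀ p ∈ (P : Subgroup G), ∀ y ∈ Vg, p * y * p⁻¹ ∈ Vg := by
      rintro p hp _ ⟨m, hm, rfl⟩
      obtain ⟨k, hk, rfl⟩ := (h.syl p).mp hp
      exact ⟨k * m * k⁻¹, V_norm k m hk hm, by rw [map_mul, map_mul, map_inv]⟩
    refine Subgroup.mem_normalizer_iff.mpr fun y => ⟨key p hp y, fun hy => ?_⟩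
    simpa [mul_assoc] using key p⁻¹ (inv_mem hp) _ hy
  have hNK : ∀ y : ↥K, y ∈ Subgroup.normalizer ((TK : Subgroup ↥K) : Set ↥K) ↔ (y : G) ∈ N := by
    intro y
    rw [Subgroup.mem_normalizer_iff, Subgroup.mem_normalizer_iff, hTK']
    constructor
    · intro hy w
      by_cases hw : w ∈ K
      · exact hy ⟨w, hw⟩
      · refine iff_of_false (fun e => hw (hVgK e)) fun e => hw ?_
        simpa [mul_assoc] using (inferInstance : K.Normal).conj_mem _ (hVgK e) (y : G)⁻¹
    · intro hy w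
      exact hy w
  have hNidx : N.index ≤ 5 := by
    rw [← hidx, Subgroup.index_eq_card, Subgroup.index_eq_card]
    refine Nat.card_le_card_of_surjective
      (fun q : ↥K ⧸ Subgroup.normalizer ((TK : Subgroup ↥K) : Set ↥K) => (QuotientGroup.mk (q.out : G) : G ⧸ N)) ?_
    intro q
    obtain ⟨g, rfl⟩ := QuotientGroup.mk_surjective q
    have hg : g ∈ K ⊔ (P : Subgroup G) := by rw [sup_comm, Transfer.sylow_sup_pResidual P]; exact mem_top g
    obtain ⟨k, hk, p, hp, rfl⟩ := Subgroup.mem_sup_of_normal_left.mp hg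
    obtain ⟨s, hs⟩ := QuotientGroup.mk_out_eq_mul (Subgroup.normalizer ((TK : Subgroup ↥K) : Set ↥K)) ⟨k, hk⟩
    refine ⟨QuotientGroup.mk ⟨k, hk⟩, ?_⟩
    show (QuotientGroup.mk _ : G ⧸ N) = QuotientGroup.mk (k * p)
    rw [hs, QuotientGroup.eq, Subgroup.coe_mul,
      show (k * ((s : ↥K) : G))⁻¹ * (k * p) = ((s : ↥K) : G)⁻¹ * p by group]
    exact mul_mem (inv_mem ((hNK _).mp s.2)) (hPN hp)
  set L : Subgroup G := N.normalCore with hL
  haveI : L.Normal := Subgroup.normalCore_normal N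
  have hLne : L ≠ ⊥ := by
    intro e
    rw [hL, Subgroup.normalCore_eq_ker, MonoidHom.ker_eq_bot_iff] at e
    have h1 := Nat.card_le_card_of_injective _ e
    rw [Nat.card_perm, ← Subgroup.index_eq_card] at h1
    have := (Nat.factorial_le hNidx).trans_eq (by decide : Nat.factorial 5 = 120)
    omega
  have hLK : ∀ y ∈ L, y ∈ K → y = 1 := by
    -- no involution of `K` lies in `L`
    have hno : ∀ y ∈ L, y ∈ K → orderOf y ≠ 2 := by
      intro y hyL hyK ho
      obtain ⟨g, hg⟩ := hKinv y hyK ho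
      have hzL : φ z0 ∈ L := hg ▸ (inferInstance : L.Normal).conj_mem y hyL g
      have := hsmall fun g' => by
        have h1 : g' * φ z0 * g'⁻¹ ∈ L := (inferInstance : L.Normal).conj_mem _ hzL g'
        have h2 : g' * φ z0 * g'⁻¹ ∈ K := (inferInstance : K.Normal).conj_mem _ (hVK _ (Or.inr (Or.inl rfl))) g'
        have := hself ⟨_, h2⟩ ((hNK _).mpr (Subgroup.normalCore_le N h1)) (Subtype.ext (by
          show g' * φ z0 * g'⁻¹ * (g' * φ z0 * g'⁻¹) = 1
          rw [conj_mul, ← map_mul, small_facts.2.1, map_one, mul_one, mul_inv_cancel]))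
        rw [hTK', Subgroup.mem_subgroupOf] at this
        exact this
      omega
    intro y hyL hyK
    have hodd : Odd (orderOf y) := by
      rw [← Nat.not_even_iff_odd]
      intro he
      have h2 : orderOf (y ^ (orderOf y / 2)) = 2 := by
        rw [orderOf_pow_of_dvd (by have := orderOf_pos y; obtain ⟨j, hj⟩ := he; omega)
          (Nat.div_dvd_of_dvd he.two_dvd)]
        exact Nat.div_div_self he.two_dvd (orderOf_pos y).ne'
      exact hno _ (pow_mem hyL _) (pow_mem hyK _) h2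
    have hz : φ z0 ∈ Vg := ⟨z0, Or.inr (Or.inl rfl), rfl⟩
    have hcm : y * φ z0 * y⁻¹ * (φ z0)⁻¹ = 1 := by
      by_contra hne
      have hin : y * φ z0 * y⁻¹ ∈ Vg := (Subgroup.mem_normalizer_iff.mp (Subgroup.normalCore_le N hyL) _).mp hz
      obtain ⟨m, hm, e⟩ := mul_mem hin (inv_mem hz)
      have hmL : y * φ z0 * y⁻¹ * (φ z0)⁻¹ ∈ L := by
        rw [show y * φ z0 * y⁻¹ * (φ z0)⁻¹ = y * (φ z0 * y⁻¹ * (φ z0)⁻¹) by group]
        exact mul_mem hyL ((inferInstance : L.Normal).conj_mem _ (inv_mem hyL) _)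
      refine hno _ hmL (e ▸ hVK m hm) (e ▸ h.inv_map ⟨(V_facts m m hm hm).2.2.1, fun e1 => hne ?_⟩)
      rw [← e, e1, map_one]
    rw [mul_inv_eq_one, mul_inv_eq_iff_eq_mul] at hcm
    exact h.odd_cz (g := 1) (by group) hcm hodd
  have hLcomm : ∀ l ∈ L, ∀ y ∈ K, l * y = y * l := by
    intro l hl y hy
    refine mul_inv_eq_iff_eq_mul.mp (mul_inv_eq_one.mp (hLK _ ?_ ?_))
    · rw [show l * y * l⁻¹ * y⁻¹ = l * (y * l⁻¹ * y⁻¹) by group]
      exact mul_mem hl ((inferInstance : L.Normal).conj_mem _ (inv_mem hl) y)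
    · exact mul_mem ((inferInstance : K.Normal).conj_mem y hy l) (inv_mem hy)
  have hLP : L ≤ P := by
    intro l hl
    obtain ⟨j, hj⟩ := (Transfer.isPGroup_quotient_pResidual (G := G) (p := 2)) (QuotientGroup.mk l)
    rw [← QuotientGroup.mk_pow, QuotientGroup.eq_one_iff] at hj
    have hl2 : l ^ 2 ^ j = 1 := hLK _ (pow_mem hl _) hj
    have hLp : IsPGroup 2 ↥L := by
      intro a
      obtain ⟨i, hi⟩ := (Transfer.isPGroup_quotient_pResidual (G := G) (p := 2)) (QuotientGroup.mk (a : G))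
      rw [← QuotientGroup.mk_pow, QuotientGroup.eq_one_iff] at hi
      exact ⟨i, Subtype.ext (hLK _ (pow_mem a.2 _) hi)⟩
    obtain ⟨d, -, hd⟩ := Hyp.conj_into P (D := ⊤) le_top hLp le_top
    have := hd (d⁻¹ * l * d⁻¹⁻¹) ((inferInstance : L.Normal).conj_mem l hl d⁻¹)
    simpa [mul_assoc] using this
  obtain ⟨l, hl, hl1⟩ := (Subgroup.bot_or_exists_ne_one L).resolve_left hLne
  obtain ⟨m, hm, rfl⟩ := (h.syl l).mp (hLP hl)
  obtain ⟨m', hm', hm'L⟩ : ∃ m', (m' = a0 ∨ m' = z0 ∨ m' = az) ∧ φ m' ∈ L := by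
    by_cases hc : m ≠ a0 ∧ m ≠ z0 ∧ m ≠ az
    · obtain ⟨k, hk, e⟩ := T_center m hm (fun e => hl1 (by rw [e, map_one])) hc
      refine ⟨z0, Or.inr (Or.inl rfl), ?_⟩
      rw [← e, map_mul, map_mul, map_mul, map_inv, map_inv,
        show φ m * φ k * (φ m)⁻¹ * (φ k)⁻¹ = φ m * (φ k * (φ m)⁻¹ * (φ k)⁻¹) by group]
      exact mul_mem hl ((inferInstance : L.Normal).conj_mem _ (inv_mem hl) _)
    · refine ⟨m, ?_, hl⟩
      by_cases h1 : m = a0
      · exact Or.inl h1
      by_cases h2 : m = z0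
      · exact Or.inr (Or.inl h2)
      by_cases h3 : m = az
      · exact Or.inr (Or.inr h3)
      exact absurd ⟨h1, h2, h3⟩ hc
  have hcomm := hLcomm _ hm'L
  rcases hm' with rfl | rfl | rfl
  · exfalso
    have hle : K ≤ centralizer ({t} : Set G) := fun y hy =>
      mem_centralizer_singleton_iff.mpr (by rw [← h.ha]; exact (hcomm y hy).symm)
    have := Nat.card_le_card_of_injective _ (Subgroup.inclusion_injective hle)
    rw [h.card_cent] at this
    omega
  · exfalso
    refine c0_ne.1 (h.inj ?_)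
    rw [map_mul, map_mul]
    exact (hcomm _ hcK).symm
  · exfalso
    refine c0_ne.2 (h.inj ?_)
    rw [map_mul, map_mul]
    exact (hcomm _ hcK).symm

/-- The conclusion of the case. -/
theorem caseA (h : Hyp t φ P)
    (hA : ∀ g : G, (∀ m, InE2 m → ∃ n, InE2 n ∧ φ n = g * φ m * g⁻¹) → ∃ k, InT k ∧ φ k = g) :
    centralizer ({t} : Set G) = ⊤ :=
  Subgroup.eq_top_of_le_card _ (by
    rw [h.card_cent]
    exact caseA_core h fun _ _ hx hy => caseA_not_conj h hA hx hy)

end CfsgLib.TwoS4
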