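/-
The case in which `t` fuses with a transposition of its centraliser: the group has order 720.
-/
import Cfsg.Agent.Lib.TwoS4.Basic
import Cfsg.Agent.Lib.TwoS4.Count
import Cfsg.Agent.S1875

set_option autoImplicit false
set_option linter.style.haveILetI false
set_option synthInstance.maxSize 4000
set_option maxHeartbeats 1000000

namespace CfsgLib.TwoS4

open Subgroup

variable {G : Type*} [Group G] {t : G} {φ : M →* G} {P : Sylow 2 G}

/-- The fusion produced by an element normalising the second elementary abelian subgroup. -/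
structure Fus (t : G) (φ : M →* G) : Prop where
  cycle : ∃ d u1 u2, ((u1 = s0 ∧ u2 = s1) ∨ (u1 = s1 ∧ u2 = s0)) ∧ d * φ az = φ az * d ∧
    d * t * d⁻¹ = φ u1 ∧ d * φ u1 * d⁻¹ = φ u2 ∧ d * φ u2 * d⁻¹ = t
  zfus : ∃ g, g * φ az = φ az * g ∧ (g * φ z0 * g⁻¹ = φ as0 ∨ g * φ z0 * g⁻¹ = φ as1)

theorem model_conj : v0 * s0 * v0⁻¹ = s1 ∧ v0 * s1 * v0⁻¹ = s0 ∧ v0 * as0 * v0⁻¹ = as1 ∧ v0 * as1 * v0⁻¹ = as0 ∧
    s0 * v0 * s0⁻¹ = w0 ∧ v0 * az = az * v0 ∧ s0 * az = az * s0 ∧ az * az = 1 ∧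
    a0 ≠ z0 ∧ a0 ≠ az ∧ z0 ≠ az := by decide +kernel

/-- `x` is carried to `y` by an element of `C(w)`. -/
def CConj (w x y : G) : Prop := ∃ d, d * w = w * d ∧ d * x * d⁻¹ = y

theorem CConj.refl (w x : G) : CConj w x x := ⟨1, by group, by group⟩

theorem CConj.trans {w x y z : G} (h1 : CConj w x y) (h2 : CConj w y z) : CConj w x z := by
  obtain ⟨d, hd, rfl⟩ := h1
  obtain ⟨e, he, rfl⟩ := h2
  exact ⟨e * d, by rw [mul_assoc, hd, ← mul_assoc, he, mul_assoc], by group⟩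

theorem CConj.isConj {w x y : G} (h1 : CConj w x y) : IsConj x y := by
  obtain ⟨d, -, e⟩ := h1
  exact isConj_iff.mpr ⟨d, e⟩

theorem cconj_map {φ : M →* G} {k x y w : M} (hk : k * w = w * k) (e : k * x * k⁻¹ = y) :
    CConj (φ w) (φ x) (φ y) :=
  ⟨φ k, by rw [← map_mul, ← map_mul, hk], by rw [← map_inv, ← map_mul, ← map_mul, e]⟩

namespace Fus

theorem t_s (F : Fus t φ) : CConj (φ az) t (φ s0) ∧ CConj (φ az) t (φ s1) := by
  obtain ⟨d, u1, u2, hu, hd, h1, h2, -⟩ := F.cycle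
  have e1 : CConj (φ az) t (φ u1) := ⟨d, hd, h1⟩
  have e2 : CConj (φ az) t (φ u2) := e1.trans ⟨d, hd, h2⟩
  rcases hu with ⟨rfl, rfl⟩ | ⟨rfl, rfl⟩
  · exact ⟨e1, e2⟩
  · exact ⟨e2, e1⟩

theorem z_as (F : Fus t φ) : CConj (φ az) (φ z0) (φ as0) ∧ CConj (φ az) (φ z0) (φ as1) := by
  obtain ⟨g, hg, e⟩ := F.zfus
  obtain ⟨-, -, c1, c2, -, cv, -⟩ := model_conj
  rcases e with e | e
  · have e1 : CConj (φ az) (φ z0) (φ as0) := ⟨g, hg, e⟩
    exact ⟨e1, e1.trans (cconj_map cv c1)⟩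
  · have e1 : CConj (φ az) (φ z0) (φ as1) := ⟨g, hg, e⟩
    exact ⟨e1.trans (cconj_map cv c2), e1⟩

end Fus

variable [Finite G]

theorem cls_fwd (h : Hyp t φ P) (F : Fus t φ) {m : M} :
    (IsA m → IsConj t (φ m)) ∧ (IsZ m → IsConj (φ z0) (φ m)) ∧ (IsB m → IsConj (φ az) (φ m)) := by
  have key : ∀ k x y : M, k * x * k⁻¹ = y → IsConj (φ y) (φ x) := fun k x y e =>
    (isConj_iff.mpr ⟨φ k, by rw [← map_inv, ← map_mul, ← map_mul, e]⟩ : IsConj (φ x) (φ y)).symm
  refine ⟨fun hm => ?_, fun hm => ?_, fun hm => ?_⟩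
  · obtain ⟨k, hk | hk⟩ := class_A m hm
    · exact h.ha ▸ key _ _ _ hk
    · exact F.t_s.1.isConj.trans (key _ _ _ hk)
  · obtain ⟨k, hk | hk⟩ := class_Z m hm
    · exact key _ _ _ hk
    · exact F.z_as.1.isConj.trans (key _ _ _ hk)
  · obtain ⟨k, hk⟩ := class_B m hm
    exact key _ _ _ hk

theorem cls_A (h : Hyp t φ P) (F : Fus t φ) {m : M} (hm : IsInv m) : IsA m ↔ IsConj t (φ m) := by
  refine ⟨(cls_fwd h F).1, fun hc => ?_⟩
  rcases classes m hm with e | e | e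
  · exact e
  · exact absurd (h.central_eq (Or.inl rfl) (Or.inr (Or.inl rfl))
      (h.ha.symm ▸ hc.trans ((cls_fwd h F).2.1 e).symm)) model_conj.2.2.2.2.2.2.2.2.1
  · exact absurd (h.central_eq (Or.inl rfl) (Or.inr (Or.inr rfl))
      (h.ha.symm ▸ hc.trans ((cls_fwd h F).2.2 e).symm)) model_conj.2.2.2.2.2.2.2.2.2.1

theorem cls_Z (h : Hyp t φ P) (F : Fus t φ) {m : M} (hm : IsInv m) : IsZ m ↔ IsConj (φ z0) (φ m) := by
  refine ⟨(cls_fwd h F).2.1, fun hc => ?_⟩
  rcases classes m hm with e | e | e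
  · exact absurd (h.central_eq (Or.inl rfl) (Or.inr (Or.inl rfl))
      (h.ha.symm ▸ ((cls_fwd h F).1 e).trans hc.symm)) model_conj.2.2.2.2.2.2.2.2.1
  · exact e
  · exact absurd (h.central_eq (Or.inr (Or.inl rfl)) (Or.inr (Or.inr rfl))
      (hc.trans ((cls_fwd h F).2.2 e).symm)) model_conj.2.2.2.2.2.2.2.2.2.2

theorem cls_B (h : Hyp t φ P) (F : Fus t φ) {m : M} (hm : IsInv m) : IsB m ↔ IsConj (φ az) (φ m) := by
  refine ⟨(cls_fwd h F).2.2, fun hc => ?_⟩
  rcases classes m hm with e | e | e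
  · exact absurd (h.central_eq (Or.inl rfl) (Or.inr (Or.inr rfl))
      (h.ha.symm ▸ ((cls_fwd h F).1 e).trans hc.symm)) model_conj.2.2.2.2.2.2.2.2.2.1
  · exact absurd (h.central_eq (Or.inr (Or.inl rfl)) (Or.inr (Or.inr rfl))
      (((cls_fwd h F).2.1 e).trans hc.symm)) model_conj.2.2.2.2.2.2.2.2.2.2
  · exact e

omit [Finite G] in
/-- Both factors of a pair counted by the order formula commute with the involution. -/
theorem pair_comm {a b w : G} (ha : a * a = 1) (hb : b * b = 1) (hw : w * w = 1)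
    (h : w ∈ zpowers (a * b)) : a * w = w * a ∧ b * w = w * b := by
  obtain ⟨k, rfl⟩ := mem_zpowers_iff.mp h
  set x := (a * b) ^ k with hx
  have e1 : a * x * a⁻¹ = x⁻¹ := (CfsgLib.Involutions.conj_zpow_eq_inv ha hb k).trans (zpow_neg _ _)
  rw [inv_eq_of_mul_eq_one_right hw] at e1
  have h1 : a * x = x * a := mul_inv_eq_iff_eq_mul.mp e1
  refine ⟨h1, ?_⟩
  have hc : Commute x (a * b) := (Commute.refl (a * b)).zpow_left k
  have hab : Commute x (a * (a * b)) := (show Commute x a from h1.symm).mul_right hc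
  rw [← mul_assoc, ha, one_mul] at hab
  exact hab.symm.eq

omit [Finite G] in
/-- A pair count of the order formula evaluated in the model. -/
theorem count_eq {u v w : G} (hu : orderOf u = 2) (hv : orderOf v = 2) {φ : M →* G} (hinj : Function.Injective φ)
    (w0 : M) (hw : φ w0 = w) (hw2 : w * w = 1) (pu pv : M → Prop) [DecidablePred pu] [DecidablePred pv]
    (hu1 : ∀ x, IsConj u x → x * w = w * x → ∃ m, pu m ∧ φ m = x) (hu2 : ∀ m, pu m → IsConj u (φ m))
    (hv1 : ∀ x, IsConj v x → x * w = w * x → ∃ m, pv m ∧ φ m = x) (hv2 : ∀ m, pv m → IsConj v (φ m)) :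
    Nat.card {q : G × G // IsConj u q.1 ∧ IsConj v q.2 ∧ w ∈ Subgroup.zpowers (q.1 * q.2)} =
      (Finset.univ.filter fun p : M × M => pu p.1 ∧ pv p.2 ∧ ∃ k : Fin 12, (p.1 * p.2) ^ (k : ℕ) = w0).card := by
  classical
  rw [← Fintype.card_coe, ← Nat.card_eq_fintype_card]
  have hmem : ∀ p : {p : M × M // p ∈ Finset.univ.filter fun p : M × M =>
      pu p.1 ∧ pv p.2 ∧ ∃ k : Fin 12, (p.1 * p.2) ^ (k : ℕ) = w0},
      IsConj u (φ p.1.1) ∧ IsConj v (φ p.1.2) ∧ w ∈ Subgroup.zpowers (φ p.1.1 * φ p.1.2) := by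
    intro p
    obtain ⟨h1, h2, k, hk⟩ := (Finset.mem_filter.mp p.2).2
    refine ⟨hu2 _ h1, hv2 _ h2, ?_⟩
    have e := congrArg φ hk
    rw [map_pow, map_mul, hw] at e
    rw [← e]
    exact pow_mem (mem_zpowers _) _
  refine (Nat.card_congr (Equiv.ofBijective
    (fun p => ⟨(φ p.1.1, φ p.1.2), hmem p⟩) ⟨?_, ?_⟩)).symm
  · intro a b e
    have := congrArg Subtype.val e
    exact Subtype.ext (Prod.ext (hinj (congrArg Prod.fst this)) (hinj (congrArg Prod.snd this)))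
  · rintro ⟨⟨a, b⟩, ha, hb, hwab⟩
    have hord : ∀ {c x : G}, orderOf c = 2 → IsConj c x → x * x = 1 := by
      intro c x hc hcx
      obtain ⟨g, rfl⟩ := isConj_iff.mp hcx
      rw [conj_mul, CfsgLib.Involutions.mul_self_eq_one_of_orderOf hc, mul_one, mul_inv_cancel]
    obtain ⟨ca, cb⟩ := pair_comm (hord hu ha) (hord hv hb) hw2 hwab
    obtain ⟨m, hm, rfl⟩ := hu1 a ha ca
    obtain ⟨n, hn, rfl⟩ := hv1 b hb cb
    obtain ⟨k, hk⟩ := mem_zpowers_iff.mp hwab
    refine ⟨⟨(m, n), Finset.mem_filter.mpr ⟨Finset.mem_univ _, hm, hn, ⟨(k % 12).toNat, by omega⟩, hinj ?_⟩⟩, rfl⟩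
    show φ ((m * n) ^ (k % 12).toNat) = φ w0
    rw [hw, ← hk, map_pow, map_mul, ← zpow_natCast, Int.toNat_of_nonneg (Int.emod_nonneg k (by norm_num))]
    conv_rhs => rw [← Int.emod_add_mul_ediv k 12]
    rw [zpow_add, zpow_mul, show ((12 : ℤ)) = ((12 : ℕ) : ℤ) from rfl, zpow_natCast (φ m * φ n) 12,
      ← map_mul, ← map_pow, pow_twelve, map_one, one_zpow, mul_one]

theorem card_G_eq (h : Hyp t φ P) (F : Fus t φ) : Nat.card G = 720 := by
  classical
  obtain ⟨hTa0, hTz0, hTaz, hTv0, hTw0, hTs0, hTs1, hTas0, hTas1, -⟩ := basic_mem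
  obtain ⟨cs1, -, -, -, cw, cv, cs, haz2, ne1, ne2, ne3⟩ := model_conj
  obtain ⟨hAa, -, -, hZz, -, -, hBaz, -⟩ := mark
  set z := φ z0 with hz
  set y := φ az with hy
  have hot : orderOf t = 2 := h.ord_t
  have hoz : orderOf z = 2 := h.inv_map hZz.1
  have hoy : orderOf y = 2 := h.inv_map hBaz.1
  have hty : ¬ IsConj t y := fun hc => ne2 (h.central_eq (Or.inl rfl) (Or.inr (Or.inr rfl)) (h.ha.symm ▸ hc))
  have htz : ¬ IsConj t z := fun hc => ne1 (h.central_eq (Or.inl rfl) (Or.inr (Or.inl rfl)) (h.ha.symm ▸ hc))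
  have hzy : ¬ IsConj z y := fun hc => ne3 (h.central_eq (Or.inr (Or.inl rfl)) (Or.inr (Or.inr rfl)) hc)
  have hW : ∀ x : G, orderOf x = 2 → ∃ w ∈ ({t, z, y} : Finset G), IsConj x w ∧
      ∀ w' ∈ ({t, z, y} : Finset G), IsConj x w' → w' = w := by
    intro x hx
    obtain ⟨g, m, -, hm, e⟩ := h.inv_into hx
    have hxm : IsConj x (φ m) := isConj_iff.mpr ⟨g, e⟩
    obtain ⟨w, hw, hwm⟩ : ∃ w ∈ ({t, z, y} : Finset G), IsConj w (φ m) := by
      rcases classes m hm with c | c | c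
      · exact ⟨t, by simp, (cls_fwd h F).1 c⟩
      · exact ⟨z, by simp, (cls_fwd h F).2.1 c⟩
      · exact ⟨y, by simp, (cls_fwd h F).2.2 c⟩
    refine ⟨w, hw, hxm.trans hwm.symm, fun w' hw' hxw' => ?_⟩
    have hc : IsConj w' w := hxw'.symm.trans (hxm.trans hwm.symm)
    simp only [Finset.mem_insert, Finset.mem_singleton] at hw hw'
    rcases hw with rfl | rfl | rfl <;> rcases hw' with rfl | rfl | rfl <;>
      first
        | rfl
        | exact absurd hc hty
        | exact absurd hc.symm hty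
        | exact absurd hc htz
        | exact absurd hc.symm htz
        | exact absurd hc hzy
        | exact absurd hc.symm hzy
  have hW2 : ∀ w ∈ ({t, z, y} : Finset G), orderOf w = 2 := by
    intro w hw
    simp only [Finset.mem_insert, Finset.mem_singleton] at hw
    rcases hw with rfl | rfl | rfl
    · exact hot
    · exact hoz
    · exact hoy
  -- membership in the two known centralisers
  have invOf : ∀ {c x : G} {m : M}, orderOf c = 2 → IsConj c x → φ m = x → IsInv m := by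
    intro c x m hc hcx e
    obtain ⟨g, rfl⟩ := isConj_iff.mp hcx
    exact h.inv_of_orderOf (by rw [e, CfsgLib.Involutions.orderOf_conj, hc])
  have inCt : ∀ {c : G} (p : M → Prop), orderOf c = 2 → (∀ m, IsInv m → (p m ↔ IsConj c (φ m))) →
      ∀ x, IsConj c x → x * t = t * x → ∃ m, p m ∧ φ m = x := by
    intro c p hc hp x hx hxt
    obtain ⟨m, e⟩ := h.cent x hxt
    exact ⟨m, (hp m (invOf hc hx e)).mpr (e.symm ▸ hx), e⟩
  have inCz : ∀ {c : G} (p : M → Prop), orderOf c = 2 → (∀ m, IsInv m → (p m ↔ IsConj c (φ m))) →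
      ∀ x, IsConj c x → x * z = z * x → ∃ m, (p m ∧ InT m) ∧ φ m = x := by
    intro c p hc hp x hx hxt
    obtain ⟨m, hm, e⟩ := h.cz x hxt
    exact ⟨m, ⟨(hp m (invOf hc hx e)).mpr (e.symm ▸ hx), hm⟩, e⟩
  have t2 : t * t = 1 := CfsgLib.Involutions.mul_self_eq_one_of_orderOf hot
  have z2 : z * z = 1 := CfsgLib.Involutions.mul_self_eq_one_of_orderOf hoz
  -- counts for the pair (t, y)
  have r1t : Nat.card {q : G × G // IsConj t q.1 ∧ IsConj y q.2 ∧ t ∈ zpowers (q.1 * q.2)} = 0 :=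
    (count_eq hot hoy h.inj a0 h.ha t2 IsA IsB (inCt IsA hot fun m hm => cls_A h F hm) (fun m => (cls_fwd h F).1)
      (inCt IsB hoy fun m hm => cls_B h F hm) (fun m => (cls_fwd h F).2.2)).trans count_tz_t
  have r1z : Nat.card {q : G × G // IsConj t q.1 ∧ IsConj y q.2 ∧ z ∈ zpowers (q.1 * q.2)} = 5 :=
    (count_eq hot hoy h.inj z0 rfl z2 IsA IsB
      (fun x hx hc => (inCz IsA hot (fun m hm => cls_A h F hm) x hx hc).imp fun m hm => ⟨hm.1.1, hm.2⟩)
      (fun m => (cls_fwd h F).1)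
      (fun x hx hc => (inCz IsB hoy (fun m hm => cls_B h F hm) x hx hc).imp fun m hm => ⟨hm.1.1, hm.2⟩)
      (fun m => (cls_fwd h F).2.2)).trans count_tz_z
  have r2t : Nat.card {q : G × G // IsConj t q.1 ∧ IsConj z q.2 ∧ t ∈ zpowers (q.1 * q.2)} = 30 :=
    (count_eq hot hoz h.inj a0 h.ha t2 IsA IsZ (inCt IsA hot fun m hm => cls_A h F hm) (fun m => (cls_fwd h F).1)
      (inCt IsZ hoz fun m hm => cls_Z h F hm) (fun m => (cls_fwd h F).2.1)).trans count_z_t
  have r2z : Nat.card {q : G × G // IsConj t q.1 ∧ IsConj z q.2 ∧ z ∈ zpowers (q.1 * q.2)} = 4 :=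
    (count_eq hot hoz h.inj z0 rfl z2 (fun m => IsA m ∧ InT m) (fun m => IsZ m ∧ InT m)
      (inCz IsA hot fun m hm => cls_A h F hm) (fun m hm => (cls_fwd h F).1 hm.1)
      (inCz IsZ hoz fun m hm => cls_Z h F hm) (fun m hm => (cls_fwd h F).2.1 hm.1)).trans count_z_z
  -- the centraliser of `y`
  set D : Subgroup G := centralizer ({y} : Set G) with hD
  have hPD : (P : Subgroup G) ≤ D := h.P_le_cent (Or.inr (Or.inr rfl))
  have memD : ∀ {x : G}, x ∈ D ↔ x * y = y * x := mem_centralizer_singleton_iff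
  obtain ⟨n, hn⟩ : 16 ∣ Nat.card ↥D := h.card_P ▸ Subgroup.card_dvd_of_le hPD
  have y2 : y * y = 1 := CfsgLib.Involutions.mul_self_eq_one_of_orderOf hoy
  -- `w` is no square, so the pairs for `(t, y)` at `y` vanish
  have r1y : Nat.card {q : G × G // IsConj t q.1 ∧ IsConj y q.2 ∧ y ∈ zpowers (q.1 * q.2)} = 0 := by
    rw [Nat.card_eq_zero]
    refine Or.inl ⟨?_⟩
    rintro ⟨⟨a, b⟩, ha, hb, hab⟩
    have ha2 : a * a = 1 := by
      obtain ⟨g, rfl⟩ := isConj_iff.mp ha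
      rw [conj_mul, t2, mul_one, mul_inv_cancel]
    have hb2 : b * b = 1 := by
      obtain ⟨g, rfl⟩ := isConj_iff.mp hb
      rw [conj_mul, y2, mul_one, mul_inv_cancel]
    obtain ⟨ca, cb⟩ := pair_comm ha2 hb2 y2 hab
    have hhalf := Cfsg.Agent.S1875.eq_half hoy hab
    obtain ⟨j, hj⟩ : Even (orderOf (a * b)) :=
      even_iff_two_dvd.mpr (hoy ▸ orderOf_dvd_of_mem_zpowers hab)
    rw [show orderOf (a * b) / 2 = j by omega] at hhalf
    by_cases hjodd : Odd j
    · -- then `a` is conjugate to `y * b`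
      have hyb : y * b * (y * b) = 1 := by
        rw [show y * b * (y * b) = y * (b * y) * b by group, cb, show y * (y * b) * b = (y * y) * (b * b) by group,
          y2, hb2, one_mul]
      have hodd : Odd (orderOf (a * (y * b))) := by
        refine Odd.of_dvd_nat hjodd (orderOf_dvd_of_pow_eq_one ?_)
        have e1 : a * (y * b) = (a * b) ^ (j + 1) := by
          rw [pow_succ, ← hhalf, ← mul_assoc, ca, mul_assoc]
        obtain ⟨i, hi⟩ := hjodd
        rw [e1, ← pow_mul, show (j + 1) * j = (j + j) * (i + 1) by rw [hi]; ring, ← hj, pow_mul,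
          pow_orderOf_eq_one, one_pow]
      obtain ⟨d, -, hd⟩ := CfsgLib.Involutions.exists_conj_eq_of_odd ha2 hyb hodd
      have hc : IsConj t (y * b) := ha.trans (isConj_iff.mpr ⟨d, hd⟩)
      obtain ⟨e, he, heP⟩ := Hyp.elem_into P hPD (memD.mpr cb) (k := 1) (by rw [pow_one, pow_two, hb2])
      obtain ⟨m, hm, em⟩ := (h.syl _).mp heP
      have hbm : IsConj y (φ m) := hb.trans (isConj_iff.mpr ⟨e, em.symm⟩)
      have hmB : IsB m := (cls_B h F (invOf hoy hbm rfl)).mpr hbm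
      have hc2 : IsConj t (φ (az * m)) := by
        refine hc.trans (isConj_iff.mpr ⟨e, ?_⟩)
        rw [map_mul, em, ← hy, show e * (y * b) * e⁻¹ = (e * y) * b * e⁻¹ by group, memD.mp he]
        group
      exact shift_AB m hm hmB ((cls_A h F (invOf hot hc2 rfl)).mpr hc2)
    · -- then `y` is a square
      obtain ⟨i, hi⟩ := Nat.not_odd_iff_even.mp hjodd
      have hsq : (a * b) ^ i * (a * b) ^ i = y := by rw [← pow_add, ← hi, hhalf]
      obtain ⟨e, -, heP⟩ := Hyp.elem_into P (D := ⊤) le_top (mem_top ((a * b) ^ i)) (k := 2) (by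
        rw [show (2 : ℕ) ^ 2 = 2 * 2 from rfl, pow_mul, pow_two, pow_two, hsq, y2])
      obtain ⟨m, hm, em⟩ := (h.syl _).mp heP
      have e1 : φ (m * m) = e * y * e⁻¹ := by rw [map_mul, em, conj_mul, hsq]
      rcases square_T m hm with c | c
      · rw [c, map_one, eq_comm, conj_eq_one_iff] at e1
        rw [e1, orderOf_one] at hoy
        omega
      · rw [c] at e1
        exact hzy (isConj_iff.mpr ⟨e, e1.symm⟩).symm
  -- class bounds inside `D`
  obtain ⟨ct0, ct1⟩ := F.t_s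
  obtain ⟨cz0, cz1⟩ := F.z_as
  set O : G → Set G := fun x => {x' | ∃ d ∈ D, d * x * d⁻¹ = x'} with hO
  have toO : ∀ {x x' : G}, CConj y x x' → x' ∈ O x := fun ⟨d, hd, e⟩ => ⟨d, memD.mpr hd, e⟩
  have Oconj : ∀ {x x' d : G}, d ∈ D → d * x' * d⁻¹ ∈ O x → x' ∈ O x := by
    rintro x x' d hd ⟨e, he, heq⟩
    exact ⟨d⁻¹ * e, mul_mem (inv_mem hd) he, by
      rw [show d⁻¹ * e * x * (d⁻¹ * e)⁻¹ = d⁻¹ * (e * x * e⁻¹) * d by group, heq]; group⟩
  have inD : ∀ {c x : G}, orderOf c = 2 → IsConj c x → x * y = y * x →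
      ∃ d m, d ∈ D ∧ InT m ∧ IsInv m ∧ IsConj c (φ m) ∧ d * x * d⁻¹ = φ m := by
    intro c x hc hcx hxy
    have hx2 : x ^ 2 ^ 1 = 1 := by
      obtain ⟨g, rfl⟩ := isConj_iff.mp hcx
      rw [pow_one, pow_two, conj_mul, CfsgLib.Involutions.mul_self_eq_one_of_orderOf hc, mul_one, mul_inv_cancel]
    obtain ⟨d, hd, hdP⟩ := Hyp.elem_into P hPD (memD.mpr hxy) hx2
    obtain ⟨m, hm, em⟩ := (h.syl _).mp hdP
    have hcm : IsConj c (φ m) := hcx.trans (isConj_iff.mpr ⟨d, em.symm⟩)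
    exact ⟨d, m, hd, hm, invOf hc hcm rfl, hcm, em.symm⟩
  set S1 : Set G := {x | IsConj t x ∧ x * y = y * x} with hS1
  set S2 : Set G := {x | IsConj z x ∧ x * y = y * x} with hS2
  have hS1le : S1 ⊆ O t := by
    rintro x ⟨hx, hxy⟩
    obtain ⟨d, m, hd, hm, hmI, hcm, em⟩ := inD hot hx hxy
    refine Oconj hd (em ▸ ?_)
    rcases T_A m hm ((cls_A h F hmI).mpr hcm) with rfl | rfl | rfl
    · exact toO (h.ha ▸ CConj.refl _ _)
    · exact toO ct0
    · exact toO ct1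
  have hS2le : S2 ⊆ O z ∪ O (φ v0) := by
    rintro x ⟨hx, hxy⟩
    obtain ⟨d, m, hd, hm, hmI, hcm, em⟩ := inD hoz hx hxy
    rcases T_Z m hm ((cls_Z h F hmI).mpr hcm) with rfl | rfl | rfl | rfl | rfl
    · exact Or.inl (Oconj hd (em ▸ toO (CConj.refl _ _)))
    · exact Or.inr (Oconj hd (em ▸ toO (CConj.refl _ _)))
    · exact Or.inr (Oconj hd (em ▸ toO (cconj_map cs cw)))
    · exact Or.inl (Oconj hd (em ▸ toO cz0))
    · exact Or.inl (Oconj hd (em ▸ toO cz1))
  have hnt : (O t).ncard ≤ n := by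
    have := orbit_le hPD (x := t) fun s hs => by
      obtain ⟨m, -, rfl⟩ := (h.syl s).mp hs
      exact h.comm_t' m
    rw [h.card_P, hn] at this
    exact Nat.le_of_mul_le_mul_right (by linarith) (by norm_num : 0 < 16)
  have hnz : (O z).ncard ≤ n := by
    have := orbit_le hPD (x := z) fun s hs => by
      obtain ⟨m, hm, rfl⟩ := (h.syl s).mp hs
      rw [hz, ← map_mul, ← map_mul, (hm : m * z0 = z0 * m)]
    rw [h.card_P, hn] at this
    exact Nat.le_of_mul_le_mul_right (by linarith) (by norm_num : 0 < 16)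
  have hnv : (O (φ v0)).ncard ≤ 2 * n := by
    have hle : E1m.map φ ≤ D := by
      rintro _ ⟨m, hm, rfl⟩
      exact hPD (h.mem (mem_E1m.mp hm).1)
    have := orbit_le hle (x := φ v0) fun s hs => by
      obtain ⟨m, hm, rfl⟩ := hs
      rw [← map_mul, ← map_mul, (mem_E1m.mp hm).2]
    rw [Subgroup.card_map_of_injective h.inj, Nat.card_congr (Equiv.subtypeEquivRight fun m => mem_E1m),
      Nat.card_eq_fintype_card, card_E1, hn] at this
    exact Nat.le_of_mul_le_mul_right (by linarith) (by norm_num : 0 < 8)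
  have hr : Nat.card {q : G × G // IsConj t q.1 ∧ IsConj z q.2 ∧ y ∈ zpowers (q.1 * q.2)} ≤ 3 * n * n := by
    have h1 : Nat.card {q : G × G // IsConj t q.1 ∧ IsConj z q.2 ∧ y ∈ zpowers (q.1 * q.2)} ≤
        Nat.card (↥S1 × ↥S2) := by
      have key : ∀ q : {q : G × G // IsConj t q.1 ∧ IsConj z q.2 ∧ y ∈ zpowers (q.1 * q.2)},
          q.1.1 ∈ S1 ∧ q.1.2 ∈ S2 := by
        rintro ⟨⟨a, b⟩, ha, hb, hab⟩
        have hord : ∀ {c x : G}, orderOf c = 2 → IsConj c x → x * x = 1 := by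
          intro c x hc hcx
          obtain ⟨g, rfl⟩ := isConj_iff.mp hcx
          rw [conj_mul, CfsgLib.Involutions.mul_self_eq_one_of_orderOf hc, mul_one, mul_inv_cancel]
        obtain ⟨ca, cb⟩ := pair_comm (hord hot ha) (hord hoz hb) y2 hab
        exact ⟨⟨ha, ca⟩, hb, cb⟩
      refine Nat.card_le_card_of_injective (fun q => (⟨q.1.1, (key q).1⟩, ⟨q.1.2, (key q).2⟩)) fun p q e => ?_
      exact Subtype.ext (Prod.ext (congrArg Subtype.val (congrArg Prod.fst e))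
        (congrArg Subtype.val (congrArg Prod.snd e)))
    rw [Nat.card_prod, Nat.card_coe_set_eq, Nat.card_coe_set_eq] at h1
    refine h1.trans ((Nat.mul_le_mul ((Set.ncard_le_ncard hS1le (Set.toFinite _)).trans hnt)
      (((Set.ncard_le_ncard hS2le (Set.toFinite _)).trans (Set.ncard_union_le _ _)).trans
        (add_le_add hnz hnv))).trans ?_)
    exact le_of_eq (by ring)
  -- the two equations
  have hn0 : 0 < n := by
    rcases Nat.eq_zero_or_pos n with rfl | h0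
    · rw [mul_zero] at hn
      exact absurd hn Nat.card_pos.ne'
    · exact h0
  have hne1 : t ∉ ({z, y} : Finset G) := by
    simp only [Finset.mem_insert, Finset.mem_singleton]
    rintro (e | e)
    · exact htz (e ▸ IsConj.refl t)
    · exact hty (e ▸ IsConj.refl t)
  have hne2 : z ∉ ({y} : Finset G) := by
    simp only [Finset.mem_singleton]
    exact fun e => hzy (e ▸ IsConj.refl z)
  have eq1 := Cfsg.Agent.S1875.result t y hot hoy hty {t, z, y} hW2 hW
  have eq2 := Cfsg.Agent.S1875.result t z hot hoz htz {t, z, y} hW2 hW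
  rw [Finset.sum_insert hne1, Finset.sum_insert hne2, Finset.sum_singleton] at eq1 eq2
  rw [r1t, r1z, r1y, h.card_cent, h.card_cz, ← hD, hn] at eq1
  rw [r2t, r2z, h.card_cent, h.card_cz, ← hD, hn] at eq2
  set r := Nat.card {q : G × G // IsConj t q.1 ∧ IsConj z q.2 ∧ y ∈ zpowers (q.1 * q.2)}
  push_cast at eq1 eq2
  have hnq : (0 : ℚ) < n := by exact_mod_cast hn0
  have hG : Nat.card G = 240 * n := by
    have : (Nat.card G : ℚ) = 240 * n := by rw [eq1]; field_simp; ring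
    exact_mod_cast this
  have hE : 240 * n * n = 672 * n + 48 * r := by
    have h1 : ((240 * n : ℕ) : ℚ) = 48 * 16 * (30 / 48 + (4 / 16 + (r : ℚ) / (16 * n))) := by rw [← hG]; exact eq2
    push_cast at h1
    have h2 : (240 : ℚ) * n * n = 672 * n + 48 * r := by
      rw [h1]; field_simp; ring
    exact_mod_cast h2
  have hn7 : n ≤ 7 := by nlinarith
  have hodd : ¬ 2 ∣ n := fun h2 => by
    refine P.not_dvd_index ?_
    have := Subgroup.index_mul_card (P : Subgroup G)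
    rw [h.card_P, hG] at this
    omega
  have h3 : 3 ∣ n := by
    obtain ⟨d, u1, u2, hu, hd, e1, e2, e3⟩ := F.cycle
    have p3 : d ^ 3 * t * (d ^ 3)⁻¹ = t := by
      calc d ^ 3 * t * (d ^ 3)⁻¹ = d * (d * (d * t * d⁻¹) * d⁻¹) * d⁻¹ := by
            simp only [pow_succ, pow_zero, one_mul, mul_inv_rev, mul_assoc]
        _ = t := by rw [e1, e2, e3]
    have hu1 : φ u1 ≠ t ∧ φ u2 ≠ t := by
      rw [← h.ha]
      rcases hu with ⟨rfl, rfl⟩ | ⟨rfl, rfl⟩ <;>
        exact ⟨fun e => absurd (h.inj e) (by decide +kernel), fun e => absurd (h.inj e) (by decide +kernel)⟩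
    have key : ∀ k : ℕ, d ^ k * t * (d ^ k)⁻¹ = t → 3 ∣ k := by
      intro k hk
      have hq : ∀ q : ℕ, d ^ (3 * q) * t * (d ^ (3 * q))⁻¹ = t := by
        intro q
        induction q with
        | zero => simp
        | succ q ih =>
          rw [Nat.mul_succ, pow_add,
            show d ^ (3 * q) * d ^ 3 * t * (d ^ (3 * q) * d ^ 3)⁻¹ =
              d ^ (3 * q) * (d ^ 3 * t * (d ^ 3)⁻¹) * (d ^ (3 * q))⁻¹ by group, p3, ih]
      rw [show k = k % 3 + 3 * (k / 3) from (Nat.mod_add_div k 3).symm, pow_add,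
        show d ^ (k % 3) * d ^ (3 * (k / 3)) * t * (d ^ (k % 3) * d ^ (3 * (k / 3)))⁻¹ =
          d ^ (k % 3) * (d ^ (3 * (k / 3)) * t * (d ^ (3 * (k / 3)))⁻¹) * (d ^ (k % 3))⁻¹ by group, hq] at hk
      have : k % 3 = 0 ∨ k % 3 = 1 ∨ k % 3 = 2 := by omega
      rcases this with c | c | c
      · omega
      · rw [c, pow_one, e1] at hk; exact absurd hk hu1.1
      · rw [c, show d ^ 2 * t * (d ^ 2)⁻¹ = d * (d * t * d⁻¹) * d⁻¹ by simp only [pow_two, mul_inv_rev, mul_assoc], e1, e2] at hk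
        exact absurd hk hu1.2
    have h1 : 3 ∣ orderOf d := key _ (by rw [pow_orderOf_eq_one]; group)
    have h2 := h1.trans (Subgroup.orderOf_dvd_natCard _ (memD.mpr hd))
    rw [hn] at h2
    exact (Nat.Coprime.dvd_mul_left (by norm_num : Nat.Coprime 3 16)).mp h2
  rw [hG]
  omega

end CfsgLib.TwoS4
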