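/-
The case in which `t` fuses with a transposition of its centraliser: the group is the symmetric group of
degree six, through the Coxeter presentation.
-/
import Cfsg.Agent.Lib.TwoS4.CaseBOrder
import Cfsg.Agent.S0111
import Cfsg.Agent.S2530

set_option autoImplicit false
set_option linter.style.haveILetI false
set_option synthInstance.maxSize 4000
set_option maxHeartbeats 1000000

namespace CfsgLib.TwoS4

open Subgroup

theorem perm_facts : (Equiv.swap 0 1 * Equiv.swap 1 2 : Equiv.Perm (Fin 6)) ∈ alternatingGroup (Fin 6) :=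
  Equiv.Perm.mem_alternatingGroup.mpr (by decide +kernel)

theorem pieces : c0 = p01 * p12 ∧ c0 ≠ 1 ∧ p01 ≠ a0 ∧ p12 ≠ a0 ∧ p12 * p01 * p12 ≠ p01 ∧ c0 * a0 = a0 * c0 ∧
    c0⁻¹ ≠ c0 ∧ Fintype.card {m : M // m = 1 ∨ m = c0 ∨ m = c0 * c0} = 3 ∧ c0 ^ 3 = 1 := by decide +kernel

variable {G : Type*} [Group G] {t : G} {φ : M →* G} {P : Sylow 2 G}

theorem braid_iff {a b : G} (ha : a * a = 1) (hb : b * b = 1) (h : (a * b) ^ 3 = 1) : (b * a) ^ 3 = 1 := by
  have e : b * a = (a * b)⁻¹ := by
    rw [mul_inv_rev, inv_eq_of_mul_eq_one_right ha, inv_eq_of_mul_eq_one_right hb]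
  rw [e, inv_pow, h, inv_one]

/-- Five elements satisfying the relations give a homomorphism from the symmetric group. -/
theorem hom_of_rels {a : Fin 5 → G} (h1 : ∀ i, a i * a i = 1)
    (h3 : ∀ i j : Fin 5, (i : ℕ) + 1 = j → (a i * a j) ^ 3 = 1)
    (h2 : ∀ i j : Fin 5, (i : ℕ) + 1 < j → a i * a j = a j * a i) :
    ∃ f : Equiv.Perm (Fin 6) →* G, ∀ i : Fin 5, f (Equiv.swap i.castSucc i.succ) = a i := by
  obtain ⟨cs, hcs⟩ := Cfsg.Agent.S2530.result 5
  have hl : (CoxeterMatrix.A 5).IsLiftable a := by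
    intro i j
    show (a i * a j) ^ (if i = j then 1 else (if (j : ℕ) + 1 = i ∨ (i : ℕ) + 1 = j then 3 else 2)) = 1
    split_ifs with e1 e2
    · rw [e1, pow_one, h1]
    · rcases e2 with e | e
      · exact braid_iff (h1 j) (h1 i) (h3 j i e)
      · exact h3 i j e
    · push Not at e2
      have hc : Commute (a i) (a j) := by
        rcases lt_trichotomy (i : ℕ) j with e | e | e
        · exact h2 i j (by omega)
        · exact absurd (Fin.ext e) e1
        · exact (h2 j i (by omega)).symm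
      rw [hc.mul_pow, pow_two, pow_two, h1, h1, one_mul]
  refine ⟨cs.lift ⟨a, hl⟩, fun i => ?_⟩
  rw [← hcs, cs.lift_apply_simple]

variable [Finite G]

theorem caseB_iso (h : Hyp t φ P) (F : Fus t φ) : Nonempty (G ≃* Equiv.Perm (Fin 6)) := by
  classical
  haveI : Fact (Nat.Prime 3) := ⟨by norm_num⟩
  haveI : Fact (Nat.Prime 2) := ⟨Nat.prime_two⟩
  have hG := card_G_eq h F
  obtain ⟨hAa, -, -, -, -, -, -, hA01, hA12, hA23⟩ := mark
  obtain ⟨hcdef, hc1, h01a, h12a, h0112, hca, hcinv, hcard3, hc3⟩ := pieces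
  obtain ⟨hi01, hi12, hZ01, hZ12, hb01, hb12, hd0123, ha01, ha12, ha23, hn0, hn1, haa, h23a⟩ := coxeter_facts
  set c := φ c0 with hcdef'
  have hot : orderOf t = 2 := h.ord_t
  have t2 : t * t = 1 := CfsgLib.Involutions.mul_self_eq_one_of_orderOf hot
  have hct : t * c = c * t := (h.comm_t' c0).symm
  have hc0o : orderOf c = 3 := orderOf_eq_prime (by rw [hcdef', ← map_pow, hc3, map_one])
    (fun e => hc1 (h.inj (by rw [← hcdef', e, map_one])))
  set H : Subgroup G := centralizer ({c} : Set G) with hH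
  have memH : ∀ {x : G}, x ∈ H ↔ x * c = c * x := mem_centralizer_singleton_iff
  -- elements of `H` centralising `t`
  have hHC : ∀ {x : G}, x ∈ H → x * t = t * x → ∃ m, m * c0 = c0 * m ∧ φ m = x := by
    intro x hx hxt
    obtain ⟨m, rfl⟩ := h.cent x hxt
    exact ⟨m, h.inj (by rw [map_mul, map_mul]; exact memH.mp hx), rfl⟩
  -- nine divides the order of `H`
  have h9 : 9 ∣ Nat.card ↥H := by
    obtain ⟨R, hR⟩ := (IsPGroup.of_card (p := 3) (n := 1)
      (show Nat.card ↥(zpowers c) = 3 ^ 1 by rw [Nat.card_zpowers, hc0o, pow_one])).exists_le_sylow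
    obtain ⟨k, hk⟩ := IsPGroup.iff_card.mp R.2
    have hmul := Subgroup.index_mul_card (R : Subgroup G)
    rw [hG, hk] at hmul
    have hnd : ¬ 3 ∣ (R : Subgroup G).index := R.not_dvd_index
    have hk2 : k = 2 := by
      rcases lt_trichotomy k 2 with e | e | e
      · exfalso
        interval_cases k <;> omega
      · exact e
      · exfalso
        have : (3 : ℕ) ^ 3 ∣ 720 := (pow_dvd_pow 3 (by omega : 3 ≤ k)).trans ⟨_, by rw [← hmul, mul_comm]⟩
        norm_num at this
    rw [hk2] at hk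
    have hcomm := IsPGroup.isMulCommutative_of_card_eq_prime_sq hk
    have hle : (R : Subgroup G) ≤ H := fun r hr => memH.mpr
      (congrArg Subtype.val (hcomm.is_comm.comm (⟨r, hr⟩ : (R : Subgroup G)) ⟨c, hR (mem_zpowers c)⟩))
    have := Subgroup.card_dvd_of_le hle
    rw [hk] at this
    simpa using this
  -- the Sylow 2-subgroup of `H`
  have htH : t ∈ H := memH.mpr hct
  obtain ⟨S, hS⟩ := (IsPGroup.of_card (p := 2) (n := 1) (show Nat.card ↥(zpowers (⟨t, htH⟩ : ↥H)) = 2 ^ 1 by
    rw [Nat.card_zpowers, ← Subgroup.orderOf_coe, hot, pow_one])).exists_le_sylow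
  have hT' : (⟨t, htH⟩ : ↥H) ∈ (S : Subgroup ↥H) := hS (mem_zpowers _)
  have hS2 : (S : Subgroup ↥H) = zpowers (⟨t, htH⟩ : ↥H) := by
    refine (le_antisymm hS ?_).symm
    intro x hx
    have hcomm : ∀ y ∈ (S : Subgroup ↥H), y * ⟨t, htH⟩ = ⟨t, htH⟩ * y → y ∈ zpowers (⟨t, htH⟩ : ↥H) := by
      intro y hy hyt
      obtain ⟨m, hm, e⟩ := hHC y.2 (congrArg Subtype.val hyt)
      obtain ⟨h6, -, hinv⟩ := cent_c0 m hm
      obtain ⟨j, hj⟩ := S.2 ⟨y, hy⟩
      have hj' : (y : G) ^ 2 ^ j = 1 := congrArg (fun a : (S : Subgroup ↥H) => ((a : ↥H) : G)) hj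
      have ho : orderOf (y : G) ∣ Nat.gcd 6 (2 ^ j) := Nat.dvd_gcd
        (orderOf_dvd_of_pow_eq_one (by rw [← e, ← map_pow, h6, map_one])) (orderOf_dvd_of_pow_eq_one hj')
      have h2 : m * m = 1 := h.inj (by
        rw [map_mul, map_one, e, ← pow_two]
        refine orderOf_dvd_iff_pow_eq_one.mp (ho.trans ?_)
        obtain ⟨i, -, hi⟩ := (Nat.dvd_prime_pow Nat.prime_two).mp (Nat.gcd_dvd_right 6 (2 ^ j))
        have h6' := Nat.gcd_dvd_left 6 (2 ^ j)
        rw [hi] at h6' ⊢
        rcases Nat.lt_or_ge i 2 with hlt | hge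
        · exact (pow_dvd_pow 2 (by omega : i ≤ 1)).trans (by norm_num)
        · exact absurd ((pow_dvd_pow 2 hge).trans h6') (by norm_num))
      by_cases hm1 : m = 1
      · rw [show y = 1 from Subtype.ext (by rw [← e, hm1, map_one]; rfl)]
        exact one_mem _
      · rw [show y = ⟨t, htH⟩ from Subtype.ext (by rw [← e, hinv ⟨h2, hm1⟩, h.ha])]
        exact mem_zpowers _
    -- `t` is central in `S`
    haveI : Group.IsNilpotent ↥(S : Subgroup ↥H) := IsPGroup.isNilpotent S.2
    have hnt : Nontrivial ↥(S : Subgroup ↥H) := ⟨⟨⟨_, hT'⟩, 1, fun e => by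
      have := congrArg (fun a : (S : Subgroup ↥H) => ((a : ↥H) : G)) e
      exact absurd hot (by rw [show t = 1 from this, orderOf_one]; norm_num)⟩⟩
    obtain ⟨zc, hzc, hzc1⟩ := (Subgroup.bot_or_exists_ne_one (Subgroup.center ↥(S : Subgroup ↥H))).resolve_left
      (fun e => by
        haveI := IsPGroup.center_nontrivial S.2
        exact (Subgroup.nontrivial_iff_ne_bot _).mp this e)
    have hzmem := hcomm zc zc.2
      (congrArg Subtype.val (Subgroup.mem_center_iff.mp hzc ⟨_, hT'⟩)).symm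
    have hzt : (zc : ↥H) = ⟨t, htH⟩ := by
      obtain ⟨i, hi, e⟩ := Finset.mem_image.mp ((mem_zpowers_iff_mem_range_orderOf).mp hzmem)
      rw [Finset.mem_range, ← Subgroup.orderOf_coe, hot] at hi
      interval_cases i
      · rw [pow_zero] at e
        exact absurd (Subtype.ext e.symm) hzc1
      · rw [pow_one] at e
        exact e.symm
    refine hcomm x hx ?_
    have := congrArg Subtype.val (Subgroup.mem_center_iff.mp hzc ⟨x, hx⟩)
    rw [Subgroup.coe_mul, Subgroup.coe_mul, hzt] at this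
    exact this
  have hScard : Nat.card (S : Subgroup ↥H) = 2 := by
    rw [hS2, Nat.card_zpowers, ← Subgroup.orderOf_coe, hot]
  -- the odd normal subgroup
  obtain ⟨N0, hN0n, hN0i, htN0⟩ := (Cfsg.Agent.S0111.result S ⊥ bot_le
    (by rw [Subgroup.relIndex_bot_left, hScard]) ⟨t, htH⟩ (by rw [← Subgroup.orderOf_coe, hot]) hT'
    (fun e => by
      have := congrArg Subtype.val (Subgroup.mem_bot.mp e)
      exact absurd hot (by rw [show t = 1 from this, orderOf_one]; norm_num))).resolve_right (by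
    rintro ⟨g, hg⟩
    have := conj_eq_one_iff.mp (Subgroup.mem_bot.mp hg)
    exact absurd hot (by rw [show t = 1 from congrArg Subtype.val this, orderOf_one]; norm_num))
  have hN0odd : Odd (Nat.card ↥N0) := by
    rw [← Nat.not_even_iff_odd]
    intro he
    obtain ⟨j, hj⟩ := he.two_dvd
    refine S.not_dvd_index (⟨j, ?_⟩ : 2 ∣ (S : Subgroup ↥H).index)
    have h1 := Subgroup.index_mul_card N0
    have h2 := Subgroup.index_mul_card (S : Subgroup ↥H)
    rw [hN0i, hj] at h1
    rw [hScard] at h2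
    omega
  set N : Subgroup G := N0.map H.subtype with hN
  have hNcard : Nat.card ↥N = Nat.card ↥N0 := Subgroup.card_map_of_injective H.subtype_injective
  have memN : ∀ x : G, x ∈ N ↔ x ∈ H ∧ Odd (orderOf x) := by
    intro x
    constructor
    · rintro ⟨a, ha, rfl⟩
      refine ⟨a.2, Odd.of_dvd_nat hN0odd ?_⟩
      rw [Subgroup.coe_subtype, Subgroup.orderOf_coe]
      exact Subgroup.orderOf_dvd_natCard _ ha
    · rintro ⟨hx, ho⟩
      refine ⟨⟨x, hx⟩, ?_, rfl⟩
      obtain ⟨k, hk⟩ := CfsgLib.Involutions.exists_sqrt (u := (⟨x, hx⟩ : ↥H))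
        (by rw [← Subgroup.orderOf_coe]; exact ho)
      rw [← hk, ← pow_two]
      exact Subgroup.sq_mem_of_index_two hN0i _
  have hN9 : 9 ≤ Nat.card ↥N := by
    rw [hNcard]
    refine Nat.le_of_dvd Nat.card_pos ((Nat.Coprime.dvd_mul_left (by norm_num : Nat.Coprime 9 2)).mp ?_)
    rw [← hN0i, Subgroup.index_mul_card]
    exact h9
  -- the element of `N` outside `C(t)`
  obtain ⟨n, hnN, hnt⟩ : ∃ n ∈ N, n * t ≠ t * n := by
    by_contra hne
    push Not at hne
    have key : ∀ a : ↥N, ∃ m : {m : M // m = 1 ∨ m = c0 ∨ m = c0 * c0}, φ m = a := by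
      intro a
      obtain ⟨hH', ho⟩ := (memN a).mp a.2
      obtain ⟨m, hm, e⟩ := hHC hH' (hne a a.2)
      obtain ⟨h6, h3, -⟩ := cent_c0 m hm
      refine ⟨⟨m, h3 (h.inj ?_)⟩, e⟩
      have hd : orderOf (a : G) ∣ 6 := orderOf_dvd_of_pow_eq_one (by rw [← e, ← map_pow, h6, map_one])
      have hd3 : orderOf (a : G) ∣ 3 :=
        (Nat.Coprime.dvd_mul_left ((Nat.coprime_two_right.mpr ho))).mp (show orderOf (a : G) ∣ 2 * 3 from hd)
      rw [map_pow, e, map_one]
      exact orderOf_dvd_iff_pow_eq_one.mp hd3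
    choose f hf using key
    have hle := Nat.card_le_card_of_injective f (fun a b e => Subtype.ext (by rw [← hf, ← hf, e]))
    rw [Nat.card_eq_fintype_card (α := {m : M // m = 1 ∨ m = c0 ∨ m = c0 * c0}), hcard3] at hle
    omega
  obtain ⟨hnH, hno⟩ := (memN n).mp hnN
  set u := n * t * n⁻¹ with hu
  have hconj : ∀ {w x : G}, w * w = 1 → x ∈ N → w * c * w = c ∨ w * c * w = c⁻¹ → w * x * w⁻¹ ∈ N := by
    intro w x hw hx hwc
    obtain ⟨hxH, hxo⟩ := (memN x).mp hx
    refine (memN _).mpr ⟨memH.mpr ?_, by rwa [CfsgLib.Involutions.orderOf_conj]⟩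
    have hwi : w⁻¹ = w := inv_eq_of_mul_eq_one_right hw
    have key : x * (w * c * w) = (w * c * w) * x := by
      rcases hwc with e | e <;> rw [e]
      · exact memH.mp hxH
      · exact ((show Commute x c from memH.mp hxH).inv_right).eq
    rw [hwi]
    calc w * x * w * c = w * (x * (w * c * w)) * w := by
          rw [show w * (x * (w * c * w)) * w = w * x * w * c * (w * w) by group, hw, mul_one]
      _ = c * (w * x * w) := by
          rw [key, show w * (w * c * w * x) * w = (w * w) * c * (w * x * w) by group, hw, one_mul]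
  -- a transposition inverting `c` commutes with `u`
  have hsig : ∀ p : M, IsA p → p * c0 * p = c0⁻¹ → IsZ (a0 * p) → p * a0 = a0 * p → φ p * u = u * φ p := by
    intro p hp hpc hpz hpa
    have hs2 : φ p * φ p = 1 := by rw [← map_mul, hp.1.1, map_one]
    have hsi : (φ p)⁻¹ = φ p := inv_eq_of_mul_eq_one_right hs2
    have hst : φ p * t = t * φ p := h.comm_t' p
    have hsc : φ p * c * φ p = c⁻¹ := by rw [hcdef', ← map_mul, ← map_mul, hpc, map_inv]
    set w := t * φ p with hw
    have hw2 : w * w = 1 := by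
      rw [hw, show t * φ p * (t * φ p) = t * (φ p * t) * φ p by group, hst,
        show t * (t * φ p) * φ p = (t * t) * (φ p * φ p) by group, t2, hs2, one_mul]
    obtain ⟨g, hg⟩ := isConj_iff.mp (((cls_fwd h F).2.1 hpz).symm)
    rw [map_mul, h.ha, ← hw] at hg
    have hwc : w * c * w = c⁻¹ := by
      rw [hw, show t * φ p * c * (t * φ p) = t * φ p * (c * t) * φ p by group, ← hct,
        show t * φ p * (t * c) * φ p = t * (φ p * t) * c * φ p by group, hst,
        show t * (t * φ p) * c * φ p = (t * t) * (φ p * c * φ p) by group, t2, one_mul, hsc]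
    let τ : ↥N →* ↥N :=
      { toFun := fun x => ⟨w * x * w⁻¹, hconj hw2 x.2 (Or.inr hwc)⟩
        map_one' := Subtype.ext (by show w * ((1 : ↥N) : G) * w⁻¹ = ((1 : ↥N) : G); simp)
        map_mul' := fun x y => Subtype.ext (by
          show w * ((x * y : ↥N) : G) * w⁻¹ = (w * x * w⁻¹) * (w * y * w⁻¹)
          rw [Subgroup.coe_mul]; group) }
    have hτ : MonoidHom.FixedPointFree τ := by
      intro x hx
      have e : w * (x : G) * w⁻¹ = x := congrArg Subtype.val hx
      exact Subtype.ext (h.odd_cz hg (mul_inv_eq_iff_eq_mul.mp e).symm ((memN x).mp x.2).2)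
    have hτ2 : Function.Involutive τ := fun x => Subtype.ext (by
      show w * (w * (x : G) * w⁻¹) * w⁻¹ = x
      rw [inv_eq_of_mul_eq_one_right hw2, show w * (w * (x : G) * w) * w = (w * w) * x * (w * w) by group,
        hw2, one_mul, mul_one])
    have hinv := hτ.coe_eq_inv_of_involutive hτ2
    have hm : t * n * t⁻¹ ∈ N := hconj t2 hnN (Or.inl (by
      rw [mul_assoc, ← hct, ← mul_assoc, t2, one_mul]))
    have e1 : w * (t * n * t⁻¹) * w⁻¹ = (t * n * t⁻¹)⁻¹ :=
      congrArg Subtype.val (congrFun hinv ⟨_, hm⟩)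
    have hti : t⁻¹ = t := inv_eq_of_mul_eq_one_right t2
    have ew : w = φ p * t := by rw [hw, hst]
    rw [ew, mul_inv_rev, hti, hsi, show φ p * t * (t * n * t) * (t * φ p) = φ p * ((t * t) * n * (t * t)) * φ p by group,
      t2, one_mul, mul_one] at e1
    have hab : n * (t * n⁻¹ * t) = (t * n⁻¹ * t) * n := by
      have hm' : t * n⁻¹ * t ∈ N := by
        have := inv_mem hm
        rwa [mul_inv_rev, mul_inv_rev, inv_inv, hti, ← mul_assoc] at this
      exact congrArg Subtype.val
        ((hτ.commute_all_of_involutive hτ2 ⟨n, hnN⟩ ⟨_, hm'⟩).eq)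
    have e2 : φ p * u * φ p = u := by
      calc φ p * u * φ p = (φ p * n * φ p) * (φ p * t * φ p) * (φ p * n * φ p)⁻¹ := by
            rw [hu, mul_inv_rev, mul_inv_rev, hsi]
            rw [show φ p * n * φ p * (φ p * t * φ p) * (φ p * (n⁻¹ * φ p)) =
              φ p * n * (φ p * φ p) * t * (φ p * φ p) * n⁻¹ * φ p by group, hs2]
            group
        _ = (t * n * t)⁻¹ * t * (t * n * t) := by
            rw [show φ p * t * φ p = t by rw [hst, mul_assoc, hs2, mul_one], e1, inv_inv]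
        _ = (t * n⁻¹ * t) * n * t := by
            rw [mul_inv_rev, mul_inv_rev, hti,
              show t * (n⁻¹ * t) * t * (t * n * t) = t * n⁻¹ * (t * t) * t * n * t by group, t2, mul_one]
        _ = u := by
            rw [← hab, hu, show n * (t * n⁻¹ * t) * t = n * t * n⁻¹ * (t * t) by group, t2, mul_one]
    calc φ p * u = φ p * u * (φ p * φ p) := by rw [hs2, mul_one]
      _ = (φ p * u * φ p) * φ p := by group
      _ = u * φ p := by rw [e2]
  set a1 := φ p01 with ha1
  set a2 := φ p12 with ha2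
  set a3 := φ p23 with ha3
  have hu1 : a1 * u = u * a1 := hsig p01 hA01 hi01 hZ01 ha01
  have hu2 : a2 * u = u * a2 := hsig p12 hA12 hi12 hZ12 ha12
  have huo : orderOf u = 2 := by rw [hu, CfsgLib.Involutions.orderOf_conj, hot]
  have u2 : u * u = 1 := CfsgLib.Involutions.mul_self_eq_one_of_orderOf huo
  have huc : u * c = c * u := by
    have : u ∈ H := mul_mem (mul_mem hnH htH) (inv_mem hnH)
    exact memH.mp this
  have hut : u * t ≠ t * u := by
    intro e
    obtain ⟨m, hm, e'⟩ := hHC (memH.mpr huc) e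
    have := (cent_c0 m hm).2.2 (h.inv_of_orderOf (by rw [e', huo]))
    rw [this, h.ha] at e'
    exact hnt (mul_inv_eq_iff_eq_mul.mp (e'.symm.trans rfl))
  -- the structure of the centraliser of `a1`
  obtain ⟨k, hk⟩ := isConj_iff.mp ((cls_fwd h F).1 hA01)
  have pre : ∀ x : G, IsConj t x → x * a1 = a1 * x → x ≠ a1 →
      ∃ p, IsA p ∧ p ≠ a0 ∧ k * φ p * k⁻¹ = x := by
    intro x hx hxa hne
    obtain ⟨p, hp⟩ := h.cent (k⁻¹ * x * k) (by
      rw [show k⁻¹ * x * k * t = k⁻¹ * (x * (k * t * k⁻¹)) * k by group, hk, ← ha1, hxa, ha1, ← hk]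
      group)
    have hpx : k * φ p * k⁻¹ = x := by rw [hp]; group
    have hpc : IsConj t (φ p) := hx.trans (isConj_iff.mpr ⟨k⁻¹, by rw [hp]; group⟩)
    obtain ⟨g, hg⟩ := isConj_iff.mp hpc
    refine ⟨p, (cls_A h F (h.inv_of_orderOf (by rw [← hg, CfsgLib.Involutions.orderOf_conj, hot]))).mpr hpc,
      fun e => hne ?_, hpx⟩
    rw [← hpx, e, h.ha, hk]
  have cc : ∀ a b : M, (k * φ a * k⁻¹) * (k * φ b * k⁻¹) = k * φ (a * b) * k⁻¹ := fun a b => by
    rw [conj_mul, map_mul]
  obtain ⟨p, hpA, hpa, ep⟩ := pre t (IsConj.refl t) (h.comm_t' p01).symm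
    (fun e => h01a (h.inj (e.symm.trans h.ha.symm)))
  obtain ⟨q, hqA, hqa, eq⟩ := pre a3 ((cls_fwd h F).1 hA23) (by rw [ha3, ha1, ← map_mul, ← map_mul, hd0123])
    (fun e => hn0 (h.inj e))
  obtain ⟨r, hrA, hra, er⟩ := pre u (isConj_iff.mpr ⟨n, rfl⟩) hu1.symm (fun e => by
    rw [e, hcdef', ha1, ← map_mul, ← map_mul] at huc
    have h3 := h.inj huc
    apply hcinv
    rw [← hi01, h3, mul_assoc, hA01.1.1, mul_one])
  have hpq : p * q = q * p := by
    have e : k * φ (p * q) * k⁻¹ = k * φ (q * p) * k⁻¹ := by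
      rw [← cc, ← cc, ep, eq]
      exact (h.comm_t' p23).symm
    exact h.inj (mul_left_cancel (mul_right_cancel e))
  have hpne : p ≠ q := fun e => by
    rw [e, eq] at ep
    exact h23a (h.inj (ep.trans h.ha.symm))
  have hpr : p * r ≠ r * p := fun e => by
    apply hut
    rw [← er, ← ep, cc, cc, e]
  obtain ⟨hb4, hb3⟩ := swap_triangle p hpA hpa q hqA hqa hpq hpne r hrA hra hpr
  have hbt : (t * u) ^ 3 = 1 := by
    rw [← ep, ← er, cc, conj_pow, ← map_pow, hb4, map_one, mul_one, mul_inv_cancel]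
  have hb3' : (a3 * u) ^ 3 = 1 := by
    rw [← eq, ← er, cc, conj_pow, ← map_pow, hb3, map_one, mul_one, mul_inv_cancel]
  -- the homomorphism
  have hinvA : ∀ {p : M}, IsA p → φ p * φ p = 1 := fun hp => by rw [← map_mul, hp.1.1, map_one]
  obtain ⟨f, hf⟩ := hom_of_rels (a := ![a1, a2, a3, u, t])
    (by
      intro i
      fin_cases i
      · exact hinvA hA01
      · exact hinvA hA12
      · exact hinvA hA23
      · exact u2
      · exact t2)
    (by
      intro i j hij
      fin_cases i <;> fin_cases j <;> simp at hij ⊢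
      · rw [ha1, ha2, ← map_mul, ← map_pow, hb01, map_one]
      · rw [ha2, ha3, ← map_mul, ← map_pow, hb12, map_one]
      · exact hb3'
      · exact braid_iff t2 u2 hbt)
    (by
      intro i j hij
      fin_cases i <;> fin_cases j <;> simp at hij ⊢
      · rw [ha1, ha3, ← map_mul, ← map_mul, hd0123]
      · exact hu1
      · exact h.comm_t' p01
      · exact hu2
      · exact h.comm_t' p12
      · exact h.comm_t' p23)
  have hinj : Function.Injective f := by
    rw [← MonoidHom.ker_eq_bot_iff]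
    by_contra hne
    have hle := Equiv.Perm.alternatingGroup_le_of_normal (N := f.ker) (by simp)
      ((Subgroup.nontrivial_iff_ne_bot _).mpr hne)
    have h3 := MonoidHom.mem_ker.mp (hle perm_facts)
    have e0 : f (Equiv.swap 0 1) = a1 := hf 0
    have e1 : f (Equiv.swap 1 2) = a2 := hf 1
    rw [map_mul, e0, e1, ha1, ha2, ← map_mul, ← hcdef] at h3
    exact hc1 (h.inj (by rw [h3, map_one]))
  have hbij : Function.Bijective f := (Nat.bijective_iff_injective_and_card f).mpr
    ⟨hinj, by rw [hG, Nat.card_perm, Nat.card_fin]; decide⟩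
  exact ⟨(MulEquiv.ofBijective f hbij).symm⟩

end CfsgLib.TwoS4
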