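/-
The dichotomy behind the recognition of the symmetric group of degree six by `C(t) ≅ Z₂ × S₄`.
-/
import Cfsg.Agent.Lib.TwoS4.CaseA
import Cfsg.Agent.Lib.TwoS4.CaseBIso

set_option autoImplicit false
set_option linter.style.haveILetI false
set_option synthInstance.maxSize 4000
set_option maxHeartbeats 1000000

namespace CfsgLib.TwoS4

open Subgroup

variable {G : Type*} [Group G] [Finite G] {t : G} {φ : M →* G} {P : Sylow 2 G}

theorem Hyp.twist (h : Hyp t φ P) : Hyp t (φ.comp twE.toMonoidHom) P where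
  inj := h.inj.comp twE.injective
  ha := by
    show φ (tw a0) = t
    rw [tw_facts.1, h.ha]
  cent x hx := by
    obtain ⟨m, rfl⟩ := h.cent x hx
    exact ⟨tw m, congrArg φ (tw_tw m)⟩
  cz x hx := by
    have hx' : x * φ z0 = φ z0 * x := by
      have e : (φ.comp twE.toMonoidHom) z0 = φ z0 := congrArg φ tw_facts.2.1
      rwa [e] at hx
    obtain ⟨m, hm, rfl⟩ := h.cz x hx'
    exact ⟨tw m, (tw_E2 m).2.mpr hm, congrArg φ (tw_tw m)⟩
  syl x := by
    rw [h.syl]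
    constructor
    · rintro ⟨m, hm, rfl⟩
      exact ⟨tw m, (tw_E2 m).2.mpr hm, congrArg φ (tw_tw m)⟩
    · rintro ⟨m, hm, rfl⟩
      exact ⟨tw m, (tw_E2 m).2.mpr hm, rfl⟩

theorem main_neq : z0 ≠ 1 ∧ az ≠ 1 ∧ a0 ≠ 1 ∧ s0 ≠ a0 ∧ s1 ≠ a0 ∧ s0 ≠ s1 := by decide +kernel

/-- The fusion data out of an element normalising the second elementary abelian subgroup. -/
theorem fus_of (h : Hyp t φ P) {g : G} (hg : ∀ m, InE2 m → ∃ n, InE2 n ∧ φ n = g * φ m * g⁻¹)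
    (hgT : ¬ ∃ k, InT k ∧ φ k = g) (hgt : g * t * g⁻¹ = φ s0 ∨ g * t * g⁻¹ = φ s1) : Fus t φ := by
  obtain ⟨-, -, -, -, -, -, -, -, -, hEa, hEz, hEy, hEs0, hEs1, -⟩ := basic_mem
  obtain ⟨cs1, cs2, cas1, cas2, -, cv, -, -, ne1, ne2, ne3⟩ := model_conj
  obtain ⟨hz1, hy1, ha1, hs0a, hs1a, hs01⟩ := main_neq
  have kc : ∀ k x y : M, k * x * k⁻¹ = y → IsConj (φ x) (φ y) := fun k x y e =>
    isConj_iff.mpr ⟨φ k, by rw [← map_inv, ← map_mul, ← map_mul, e]⟩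
  have htA : ∀ m, (m = a0 ∨ m = s0 ∨ m = s1) → IsConj (φ a0) (φ m) := by
    intro m hm
    rcases hgt with e | e <;> rcases hm with rfl | rfl | rfl
    · exact IsConj.refl _
    · exact h.ha.symm ▸ isConj_iff.mpr ⟨g, e⟩
    · exact (h.ha.symm ▸ isConj_iff.mpr ⟨g, e⟩ : IsConj (φ a0) (φ s0)).trans (kc _ _ _ cs1)
    · exact IsConj.refl _
    · exact (h.ha.symm ▸ isConj_iff.mpr ⟨g, e⟩ : IsConj (φ a0) (φ s1)).trans (kc _ _ _ cs2)
    · exact h.ha.symm ▸ isConj_iff.mpr ⟨g, e⟩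
  -- the image of `z`
  obtain ⟨nz, hnzE, hnz⟩ := hg z0 hEz
  have hcz : IsConj (φ z0) (φ nz) := isConj_iff.mpr ⟨g, hnz.symm⟩
  have hnz1 : nz ≠ 1 := fun e => by
    rw [e, map_one, eq_comm, conj_eq_one_iff] at hnz
    exact hz1 (h.inj (hnz.trans (map_one φ).symm))
  have hnzas : nz = as0 ∨ nz = as1 := by
    have notA : ¬ (nz = a0 ∨ nz = s0 ∨ nz = s1) := fun e =>
      ne1 (h.central_eq (Or.inl rfl) (Or.inr (Or.inl rfl)) ((htA nz e).trans hcz.symm))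
    rcases E2_side nz hnzE hnz1 with e | e | e | e | e | e | e
    · exact absurd (Or.inl e) notA
    · exfalso
      rw [e] at hnz
      exact hgT (h.cz g (mul_inv_eq_iff_eq_mul.mp hnz.symm))
    · exact absurd (h.central_eq (Or.inr (Or.inl rfl)) (Or.inr (Or.inr rfl)) (e ▸ hcz)) ne3
    · exact absurd (Or.inr (Or.inl e)) notA
    · exact absurd (Or.inr (Or.inr e)) notA
    · exact Or.inl e
    · exact Or.inr e
  have hzA : ∀ m, (m = z0 ∨ m = as0 ∨ m = as1) → IsConj (φ z0) (φ m) := by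
    intro m hm
    rcases hnzas with rfl | rfl <;> rcases hm with rfl | rfl | rfl
    · exact IsConj.refl _
    · exact hcz
    · exact hcz.trans (kc _ _ _ cas1)
    · exact IsConj.refl _
    · exact hcz.trans (kc _ _ _ cas2)
    · exact hcz
  -- the image of `az`
  obtain ⟨ny, hnyE, hny⟩ := hg az hEy
  have hcy : IsConj (φ az) (φ ny) := isConj_iff.mpr ⟨g, hny.symm⟩
  have hgy : g * φ az = φ az * g := by
    have hny1 : ny ≠ 1 := fun e => by
      rw [e, map_one, eq_comm, conj_eq_one_iff] at hny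
      exact hy1 (h.inj (hny.trans (map_one φ).symm))
    have notA : ¬ (ny = a0 ∨ ny = s0 ∨ ny = s1) := fun e =>
      ne2 (h.central_eq (Or.inl rfl) (Or.inr (Or.inr rfl)) ((htA ny e).trans hcy.symm))
    have notZ : ¬ (ny = z0 ∨ ny = as0 ∨ ny = as1) := fun e =>
      ne3 (h.central_eq (Or.inr (Or.inl rfl)) (Or.inr (Or.inr rfl)) ((hzA ny e).trans hcy.symm))
    rcases E2_side ny hnyE hny1 with e | e | e | e | e | e | e
    · exact absurd (Or.inl e) notA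
    · exact absurd (Or.inl e) notZ
    · rw [e] at hny
      exact mul_inv_eq_iff_eq_mul.mp hny.symm
    · exact absurd (Or.inr (Or.inl e)) notA
    · exact absurd (Or.inr (Or.inr e)) notA
    · exact absurd (Or.inr (Or.inl e)) notZ
    · exact absurd (Or.inr (Or.inr e)) notZ
  -- the images of `s0` and `s1`
  obtain ⟨u1, u2, hu, e1⟩ : ∃ u1 u2, ((u1 = s0 ∧ u2 = s1) ∨ (u1 = s1 ∧ u2 = s0)) ∧ g * t * g⁻¹ = φ u1 := by
    rcases hgt with e | e
    · exact ⟨s0, s1, Or.inl ⟨rfl, rfl⟩, e⟩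
    · exact ⟨s1, s0, Or.inr ⟨rfl, rfl⟩, e⟩
  have img : ∀ w, (w = s0 ∨ w = s1) → ∃ m, (m = a0 ∨ m = u1 ∨ m = u2) ∧ m ≠ u1 ∧ φ m = g * φ w * g⁻¹ := by
    intro w hw
    obtain ⟨m, hmE, hm⟩ := hg w (by rcases hw with rfl | rfl <;> assumption)
    have hwA : IsConj (φ a0) (φ m) :=
      (htA w (Or.inr hw)).trans (isConj_iff.mpr ⟨g, hm.symm⟩)
    have hwa : w ≠ a0 := by rcases hw with rfl | rfl <;> assumption
    have hm1 : m ≠ 1 := fun e => by
      rw [e, map_one] at hwA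
      exact ha1 (h.inj ((isConj_one_left.mp hwA).trans (map_one φ).symm))
    refine ⟨m, ?_, fun e => hwa ?_, hm⟩
    · have : m = a0 ∨ m = s0 ∨ m = s1 := by
        rcases E2_side m hmE hm1 with e | e | e | e | e | e | e
        · exact Or.inl e
        · exact absurd (h.central_eq (Or.inl rfl) (Or.inr (Or.inl rfl)) (e ▸ hwA)) ne1
        · exact absurd (h.central_eq (Or.inl rfl) (Or.inr (Or.inr rfl)) (e ▸ hwA)) ne2
        · exact Or.inr (Or.inl e)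
        · exact Or.inr (Or.inr e)
        · exact absurd (h.central_eq (Or.inl rfl) (Or.inr (Or.inl rfl))
            (hwA.trans (hzA m (Or.inr (Or.inl e))).symm)) ne1
        · exact absurd (h.central_eq (Or.inl rfl) (Or.inr (Or.inl rfl))
            (hwA.trans (hzA m (Or.inr (Or.inr e))).symm)) ne1
      rcases hu with ⟨rfl, rfl⟩ | ⟨rfl, rfl⟩
      · exact this
      · rcases this with e | e | e
        · exact Or.inl e
        · exact Or.inr (Or.inr e)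
        · exact Or.inr (Or.inl e)
    · rw [e, ← e1, ← h.ha] at hm
      exact (h.inj (mul_left_cancel (mul_right_cancel hm))).symm
  obtain ⟨hu1, hu2, hu12⟩ : (u1 = s0 ∨ u1 = s1) ∧ (u2 = s0 ∨ u2 = s1) ∧ u1 ≠ u2 := by
    rcases hu with ⟨rfl, rfl⟩ | ⟨rfl, rfl⟩
    · exact ⟨Or.inl rfl, Or.inr rfl, hs01⟩
    · exact ⟨Or.inr rfl, Or.inl rfl, hs01.symm⟩
  obtain ⟨m1, hm1, hm1ne, em1⟩ := img u1 hu1
  obtain ⟨m2, hm2, hm2ne, em2⟩ := img u2 hu2
  have hm12 : m1 ≠ m2 := fun e => by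
    rw [e] at em1
    exact hu12 (h.inj (mul_left_cancel (mul_right_cancel (em1.symm.trans em2))))
  refine ⟨?_, g, hgy, hnzas.imp (fun e => by rw [← hnz, e]) (fun e => by rw [← hnz, e])⟩
  rcases hm1.imp_right (fun e => e.resolve_left hm1ne) with e | e
  · -- `g` swaps `t` and `u1`
    have e2 : m2 = u2 := by
      rcases hm2 with e' | e' | e'
      · exact absurd (e.trans e'.symm) hm12
      · exact absurd e' hm2ne
      · exact e'
    have cv' : φ v0 * φ az = φ az * φ v0 := by rw [← map_mul, cv, map_mul]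
    have c12 : φ v0 * φ u1 * (φ v0)⁻¹ = φ u2 ∧ φ v0 * φ u2 * (φ v0)⁻¹ = φ u1 ∧ φ v0 * t * (φ v0)⁻¹ = t := by
      simp only [← map_inv, ← map_mul]
      refine ⟨?_, ?_, ?_⟩
      · rcases hu with ⟨rfl, rfl⟩ | ⟨rfl, rfl⟩
        · rw [cs1]
        · rw [cs2]
      · rcases hu with ⟨rfl, rfl⟩ | ⟨rfl, rfl⟩
        · rw [cs2]
        · rw [cs1]
      · rw [map_inv, h.comm_t' v0, mul_inv_cancel_right]
    refine ⟨φ v0 * g, u2, u1, hu.symm.imp And.symm And.symm, by rw [mul_assoc, hgy, ← mul_assoc, cv', mul_assoc],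
      ?_, ?_, ?_⟩
    · rw [mul_inv_rev, show φ v0 * g * t * (g⁻¹ * (φ v0)⁻¹) = φ v0 * (g * t * g⁻¹) * (φ v0)⁻¹ by group, e1, c12.1]
    · rw [mul_inv_rev, show φ v0 * g * φ u2 * (g⁻¹ * (φ v0)⁻¹) = φ v0 * (g * φ u2 * g⁻¹) * (φ v0)⁻¹ by group,
        ← em2, e2, c12.2.1]
    · rw [mul_inv_rev, show φ v0 * g * φ u1 * (g⁻¹ * (φ v0)⁻¹) = φ v0 * (g * φ u1 * g⁻¹) * (φ v0)⁻¹ by group,
        ← em1, e, h.ha, c12.2.2]
  · -- `g` is a three-cycle
    have e2 : m2 = a0 := by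
      rcases hm2 with e' | e' | e'
      · exact e'
      · exact absurd e' hm2ne
      · exact absurd (e.trans e'.symm) hm12
    exact ⟨g, u1, u2, hu, hgy, e1, by rw [← em1, e], by rw [← em2, e2, h.ha]⟩

/-- The dichotomy. -/
theorem dichotomy (h : Hyp t φ P) : centralizer ({t} : Set G) = ⊤ ∨ Nonempty (G ≃* Equiv.Perm (Fin 6)) := by
  by_cases hA : ∀ g : G, (∀ m, InE2 m → ∃ n, InE2 n ∧ φ n = g * φ m * g⁻¹) → ∃ k, InT k ∧ φ k = g
  · exact Or.inl (caseA h hA)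
  right
  push Not at hA
  obtain ⟨g, hg, hgT⟩ := hA
  have hgT' : ¬ ∃ k, InT k ∧ φ k = g := fun ⟨k, hk, e⟩ => hgT k hk e
  obtain ⟨-, -, -, -, -, -, -, -, -, hEa, hEz, -, hEs, -⟩ := basic_mem
  obtain ⟨n, hnE, hn⟩ := hg a0 hEa
  rw [h.ha] at hn
  have hn1 : n ≠ 1 := fun e => by
    rw [e, map_one, eq_comm, conj_eq_one_iff] at hn
    have := h.ord_t
    rw [hn, orderOf_one] at this
    omega
  have hct : IsConj (φ a0) (φ n) := h.ha.symm ▸ isConj_iff.mpr ⟨g, hn.symm⟩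
  rcases E2_side n hnE hn1 with e | e | e | e | e | e | e
  · exfalso
    rw [e, h.ha] at hn
    obtain ⟨k, rfl⟩ := h.cent g (mul_inv_eq_iff_eq_mul.mp hn.symm)
    refine hgT k ?_ rfl
    have key : ∀ m, InE2 m → InE2 (k * m * k⁻¹) := fun m hm => by
      obtain ⟨m', hm', e'⟩ := hg m hm
      rw [← map_inv, ← map_mul, ← map_mul] at e'
      exact h.inj e' ▸ hm'
    exact normalize_E2 k (key _ hEa) (key _ hEz) (key _ hEs)
  · exact absurd (h.central_eq (Or.inl rfl) (Or.inr (Or.inl rfl)) (e ▸ hct)) model_conj.2.2.2.2.2.2.2.2.1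
  · exact absurd (h.central_eq (Or.inl rfl) (Or.inr (Or.inr rfl)) (e ▸ hct)) model_conj.2.2.2.2.2.2.2.2.2.1
  · exact caseB_iso h (fus_of h hg hgT' (Or.inl (e ▸ hn.symm)))
  · exact caseB_iso h (fus_of h hg hgT' (Or.inr (e ▸ hn.symm)))
  all_goals
    have hg' : ∀ m, InE2 m → ∃ n, InE2 n ∧ (φ.comp twE.toMonoidHom) n = g * (φ.comp twE.toMonoidHom) m * g⁻¹ := by
      intro m hm
      obtain ⟨n', hn', e'⟩ := hg (tw m) ((tw_E2 m).1.mpr hm)
      exact ⟨tw n', (tw_E2 n').1.mpr hn', (congrArg φ (tw_tw n')).trans e'⟩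
    have hgT'' : ¬ ∃ k, InT k ∧ (φ.comp twE.toMonoidHom) k = g := fun ⟨k, hk, e'⟩ =>
      hgT (tw k) ((tw_E2 k).2.mpr hk) e'
    refine caseB_iso h.twist (fus_of h.twist hg' hgT'' ?_)
    obtain ⟨-, -, e3, e4, -, -, -⟩ := tw_facts
    show g * t * g⁻¹ = φ (tw s0) ∨ g * t * g⁻¹ = φ (tw s1)
    rw [e3, e4, ← hn, e]
    simp

end CfsgLib.TwoS4
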